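import Cfsg.Agent.E7P.Base.Act
import Cfsg.Agent.E7P.Lie.Exp
import Cfsg.Agent.E7P.Lie.AJor
import Cfsg.Agent.R2.T1.N6D.Lq

/-!
# S5932, `p = 2`: basics (helper39)

* every field: `eqv2`, `del_adM'`, `adM_br'`, `St_del'`, `adM_Zc`, `cm_Zc`;
* `2 = 0`: the square `sq`, `del_sq`, `sq_add`, `sq_smul`, `adM_sq`, `exists_sq_zero`;
* `Sit.two`, `ck2`, `nop2`, `pt2`; `Sit.C` (the fixed points of `A` on the Lie algebra), `FixZ`, `fix_of_mod`.
-/

set_option autoImplicit false
set_option maxRecDepth 100000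

namespace Cfsg.Agent.E7P

open Cfsg Cfsg.Lie Matrix Module
open Cfsg.Agent.H943.E7V.Block (D1 rho)
open Cfsg.Agent.R2.T1 Cfsg.Agent.E7P.Kf Cfsg.Agent.E7P.Br
open Cfsg.Agent.R2.PX (del)
open Cfsg.Agent.R2.T1.N6D (Zc mem_Zc zv del_zv Zc_eq)

universe u v

namespace P2

variable {K : Type u} [Field K]

/-- `del` is equivariant over every field -/
theorem eqv2 : La.Eqv K := R2.T2.Alg.del_equi'

theorem del_adM' (g : Gh K) (z : chevE7.Idx → K) : del K (adM K g *ᵥ z) = rho K g * del K z * rho K g⁻¹ :=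
  eqv2.conj g z

theorem rho_inv_mul (g : Gh K) (A : Matrix D1 D1 K) : rho K g⁻¹ * (rho K g * A) = A := by
  rw [← mul_assoc, ← map_mul, inv_mul_cancel, map_one, one_mul]

/-- fixed vectors are the ones which commute -/
theorem fix_iff {g : Gh K} {z : chevE7.Idx → K} : adM K g *ᵥ z = z ↔ rho K g * del K z = del K z * rho K g := by
  refine ⟨fun h => by rw [eqv2 g z, h], fun h => Mu.del_injective ?_⟩
  rw [del_adM', h, mul_assoc, La.rho_mul_inv, mul_one]

theorem adM_br' (g : Gh K) (x y : chevE7.Idx → K) :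
    adM K g *ᵥ br K x y = br K (adM K g *ᵥ x) (adM K g *ᵥ y) := Mu.del_injective (by
  rw [del_br, del_adM', del_adM', del_adM', del_br, mul_sub, sub_mul]
  simp only [mul_assoc, rho_inv_mul])

/-- the weights of a subset of the Lie algebra, seen in `End V` -/
theorem St_del' (X : Set (chevE7.Idx → K)) : St ec (eR K) ((fun z => Kf.vec (del K z)) '' X) = St ac (adM K) X := by
  funext g
  ext s
  constructor
  · rintro ⟨i, rfl, _, ⟨z, hz, rfl⟩, hi⟩
    rw [endo_mulVec, ← del_adM'] at hi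
    obtain ⟨a, ha, e⟩ := del_wt hi
    refine ⟨a, ?_, z, hz, ha⟩
    rw [cv_add, cv_neg]
    show wv i.1 + - wv i.2 = _
    rw [e, add_neg_cancel_comm]
  · rintro ⟨a, rfl, z, hz, ha⟩
    obtain ⟨i, j, h1, e⟩ := del_supp ha
    refine ⟨(i, j), ?_, _, ⟨z, hz, rfl⟩, by rw [endo_mulVec, ← del_adM']; exact h1⟩
    rw [cv_add, cv_neg]
    show _ = wv i + - wv j
    rw [e, add_neg_cancel_comm]

theorem adM_Zc {z : chevE7.Idx → K} (hz : z ∈ Zc K) (g : Gh K) : adM K g *ᵥ z = z := by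
  obtain ⟨c, hc⟩ := mem_Zc.1 hz
  rw [fix_iff, ← hc, Matrix.mul_smul, Matrix.smul_mul, mul_one, one_mul]

theorem cm_Zc {z : chevE7.Idx → K} (hz : z ∈ Zc K) (x : chevE7.Idx → K) : Cm z x := by
  obtain ⟨c, hc⟩ := mem_Zc.1 hz
  rw [Cm, ← hc, Matrix.mul_smul, Matrix.smul_mul, mul_one, one_mul]

theorem adM_mem_Zc {g : Gh K} {z : chevE7.Idx → K} : adM K g *ᵥ z ∈ Zc K ↔ z ∈ Zc K := by
  refine ⟨fun h => ?_, fun h => by rwa [adM_Zc h]⟩
  rwa [← adM_Zc h g⁻¹, mulVec_inv] at h

theorem eq_zero_of_Zc {z : chevE7.Idx → K} (hz : z ∈ Zc K) (hn : IsNilpotent (del K z)) : z = 0 := by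
  by_contra hne
  obtain ⟨c, hc⟩ := mem_Zc.1 hz
  obtain ⟨n, hn⟩ := hn
  rw [← hc, smul_pow, one_pow] at hn
  have h1 : c = 0 := by
    by_contra h1
    have h3 : (1 : Matrix D1 D1 K) = 0 := (smul_eq_zero.1 hn).resolve_left (pow_ne_zero n h1)
    exact hne (Mu.del_inj (by rw [← mul_one (del K z), h3, mul_zero]))
  exact hne (Mu.del_inj (by rw [← hc, h1, zero_smul]))

/-! ### squares -/

open Classical in
variable (K) in
/-- the square (the `2`-map in characteristic `2`) -/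
noncomputable def sq (z : chevE7.Idx → K) : chevE7.Idx → K :=
  if h : ∃ w, del K w = del K z * del K z then h.choose else 0

theorem exists_sq (h2 : (2 : K) = 0) (z : chevE7.Idx → K) : ∃ w, del K w = del K z * del K z :=
  R2.T2.Alg.sq_mem h2 (R2.T2.Alg.del_mem z)

theorem del_sq (h2 : (2 : K) = 0) (z : chevE7.Idx → K) : del K (sq K z) = del K z * del K z := by
  rw [sq, dif_pos (exists_sq h2 z)]
  exact (exists_sq h2 z).choose_spec

theorem neg_eq (h2 : (2 : K) = 0) {M : Type*} [AddCommGroup M] [Module K M] (x : M) : -x = x := by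
  rw [neg_eq_iff_add_eq_zero, ← two_smul K, h2, zero_smul]

theorem sq_add (h2 : (2 : K) = 0) (x y : chevE7.Idx → K) : sq K (x + y) = sq K x + sq K y + br K x y :=
  Mu.del_injective (by
    rw [map_add, map_add, del_sq h2, del_sq h2, del_sq h2, del_br, map_add, sub_eq_add_neg, neg_eq h2]
    noncomm_ring)

theorem sq_smul (h2 : (2 : K) = 0) (c : K) (x : chevE7.Idx → K) : sq K (c • x) = c ^ 2 • sq K x :=
  Mu.del_injective (by rw [map_smul, del_sq h2, del_sq h2, map_smul, smul_mul_smul_comm, pow_two])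

theorem sq_zero (h2 : (2 : K) = 0) : sq K 0 = 0 := Mu.del_inj (by rw [del_sq h2, map_zero, mul_zero])

theorem sq_eq_zero (h2 : (2 : K) = 0) {x : chevE7.Idx → K} : sq K x = 0 ↔ del K x * del K x = 0 :=
  ⟨fun h => by rw [← del_sq h2, h, map_zero], fun h => Mu.del_inj (by rw [del_sq h2, h])⟩

theorem sq_eq_self (h2 : (2 : K) = 0) {x : chevE7.Idx → K} : sq K x = x ↔ del K x * del K x = del K x :=
  ⟨fun h => by rw [← del_sq h2, h], fun h => Mu.del_injective (by rw [del_sq h2, h])⟩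

theorem adM_sq (h2 : (2 : K) = 0) (g : Gh K) (x : chevE7.Idx → K) : adM K g *ᵥ sq K x = sq K (adM K g *ᵥ x) :=
  Mu.del_injective (by
    rw [del_adM', del_sq h2, del_sq h2, del_adM']
    simp only [mul_assoc, rho_inv_mul])

theorem br_sq (h2 : (2 : K) = 0) (x y : chevE7.Idx → K) : br K (sq K x) y = br K x (br K x y) :=
  Mu.del_injective (by
    simp only [del_br, del_sq h2]
    have h1 := neg_eq h2 (del K x * del K y * del K x)
    have h3 := neg_eq h2 (del K y * (del K x * del K x))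
    linear_combination (norm := noncomm_ring) h3 - h1)

theorem cm_sq (h2 : (2 : K) = 0) {x y : chevE7.Idx → K} (h : Cm x y) : Cm (sq K x) y := by
  rw [← br_eq_zero] at h ⊢
  rw [br_sq h2, h, map_zero]

theorem sq_Ge (h2 : (2 : K) = 0) {β : E} {d : ℝ} {x : chevE7.Idx → K} (h : x ∈ Ge K ac β d) :
    sq K x ∈ Ge K ac β (d + d) := by
  rw [← del_MGe] at h ⊢
  rw [del_sq h2]
  exact Br.MGe_mul h h

theorem del_sq_iter (h2 : (2 : K) = 0) (n : ℕ) (x : chevE7.Idx → K) : del K ((sq K)^[n] x) = del K x ^ 2 ^ n := by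
  induction n with
  | zero => rw [Function.iterate_zero_apply, pow_zero, pow_one]
  | succ n ih => rw [Function.iterate_succ_apply', del_sq h2, ih, pow_succ, pow_mul, pow_two]

/-- a set which is closed under squares and contains a nilpotent element contains an element of square zero -/
theorem exists_sq_zero (h2 : (2 : K) = 0) {C : Set (chevE7.Idx → K)} (hC : ∀ z ∈ C, sq K z ∈ C) {z : chevE7.Idx → K}
    (hz : z ∈ C) (h0 : z ≠ 0) (hn : IsNilpotent (del K z)) : ∃ w ∈ C, w ≠ 0 ∧ del K w * del K w = 0 := by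
  obtain ⟨n, hn⟩ := hn
  induction n generalizing z with
  | zero => exact absurd (Mu.del_inj (by rw [← mul_one (del K z), ← pow_zero (del K z), hn, mul_zero])) h0
  | succ n ih =>
    by_cases h : sq K z = 0
    · exact ⟨z, hz, h0, (sq_eq_zero h2).1 h⟩
    refine ih (hC z hz) h ?_
    rcases n with _ | n
    · exact absurd (Mu.del_inj (by rwa [zero_add, pow_one] at hn)) h0
    · rw [del_sq h2, ← pow_two, ← pow_mul]
      exact pow_eq_zero_of_le (by omega) hn

/-- the centre of the group is trivial in characteristic `2` -/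
theorem eq_one_of_center (h2 : (2 : K) = 0) {z : Gh K} (hz : z ∈ Subgroup.center (Gh K)) : z = 1 := by
  rcases V_center hz with h | h
  · exact faithful h
  · exact faithful (by rw [h, neg_eq h2])

end P2

namespace Sit

open P2

variable {p a b : ℕ} {F : Type u} {K : Type v} {k : Type u} [Field F] [Fintype F] [Field K] [Fintype K] [Field k]
  (S : Sit p a b F K k)

include S in
theorem two (hp : p = 2) : (2 : k) = 0 := by
  subst hp
  have := S.chark
  exact CharTwo.two_eq_zero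

include S in
theorem twoK (hp : p = 2) : (2 : K) = 0 := by
  subst hp
  have := S.charK
  exact CharTwo.two_eq_zero

include S in
theorem four_le (hp : p = 2) : 4 ≤ a := by
  subst hp
  by_contra h
  have h1 := S.eleven
  have h2 : 2 ^ a ≤ 2 ^ 3 := Nat.pow_le_pow_right two_pos (by omega)
  omega

/-- **CK2** -/
theorem ck2 (hp : p = 2) : S.CK := fun _ hc h =>
  (S.fpf' (D := S.CA) (fun _ => S.σ_mem_CA) (fun _ hm _ => S.conj_mem_CA hm)
    (fun _ hy => S.cent_fix (S.mem_CA.1 hy)) (S.mem_CA.2 hc) h).resolve_right fun h1 => h1.1 hp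

theorem ck2' (hp : p = 2) {c : Gh k} (hc : S.Cent c) (h : c * c = 1) : c = 1 :=
  S.ck2 hp c hc (by rw [hp, pow_two, h])

/-- a `σ`-stable subgroup normalised by `M` which does not contain `A` has no involution -/
theorem nop2 (hp : p = 2) {D : Subgroup (Gh k)} (hσ : ∀ x ∈ D, S.σ x ∈ D) (hM : ∀ m ∈ S.M, ∀ x ∈ D, m * x * m⁻¹ ∈ D)
    (hA : ∃ x, S.ψ x ∉ D) {c : Gh k} (hc : c ∈ D) (h : c ^ p = 1) : c = 1 :=
  (S.fpf' hσ hM ((S.base hM).resolve_right (not_forall.2 hA)) hc h).resolve_right fun h1 => h1.1 hp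

/-- **PT**, `p = 2` -/
theorem pt2 (hp : p = 2) {I : Type} [Fintype I] [DecidableEq I] {c : I → Fin 7 → ℤ} {R : Gh k →* Matrix I I k}
    (hR : WRep c R) : S.PT R := by
  rintro W hW ⟨x, y, hy, hxy⟩ d hd h
  refine S.nop2 hp (D := Fx R W) (fun e he z hz => ?_) (fun m hm e he z hz => ?_) ⟨x, fun h1 => hxy (h1 y hy)⟩ hd h
  · obtain ⟨z', hz', rfl⟩ := S.k_sv_surj (X := (W : Set (I → k))) hW.2 z hz
    exact (S.sv_mulVec hR e z').symm.trans (by rw [he z' hz']; rfl)
  · rw [mulVec_mul, mulVec_mul, he _ (hW.1 _ (inv_mem hm) z hz), mulVec_inv']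

/-- no root element centralises `A` -/
theorem not_cent_xs (hp : p = 2) {g : Gh k} {r : ℕ} (hr : r < 126) {t : k} (ht : t ≠ 0)
    (h : S.Cent (g * xs k r t * g⁻¹)) : False := by
  have h1 := S.ck2' hp h (by
    rw [show g * xs k r t * g⁻¹ * (g * xs k r t * g⁻¹) = g * (xs k r t * xs k r t) * g⁻¹ by group, xs_mul,
      ← two_smul k, S.two hp, zero_smul, xs_zero, mul_one, mul_inv_cancel])
  have h3 : xs k r t = 1 := by rw [show xs k r t = g⁻¹ * (g * xs k r t * g⁻¹) * g by group, h1, mul_one, inv_mul_cancel]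
  have h4 := lead_xs hr t
  rw [h3, map_one, sub_self, zero_sub, neg_eq_zero] at h4
  exact ht (by simpa using congrFun (Mu.del_inj h4) (Sum.inr ⟨r, hr⟩))

/-- the fixed points of `A` on the Lie algebra -/
def C : Submodule k (chevE7.Idx → k) where
  carrier := {y | ∀ x, adM k (S.ψ x) *ᵥ y = y}
  zero_mem' := fun _ => mulVec_zero _
  add_mem' := fun h h' x => by rw [mulVec_add, h x, h' x]
  smul_mem' := fun _ _ h x => by rw [mulVec_smul, h x]

theorem mem_C {y : chevE7.Idx → k} : y ∈ S.C ↔ ∀ x, adM k (S.ψ x) *ᵥ y = y := Iff.rfl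

theorem Zc_le_C : Zc k ≤ S.C := fun _ h _ => adM_Zc h _

theorem br_mem_C {x y : chevE7.Idx → k} (hx : x ∈ S.C) (hy : y ∈ S.C) : br k x y ∈ S.C := fun g => by
  rw [adM_br', hx g, hy g]

theorem sq_mem_C (hp : p = 2) {x : chevE7.Idx → k} (hx : x ∈ S.C) : sq k x ∈ S.C := fun g => by
  rw [adM_sq (S.two hp), hx g]

theorem stb_C : S.Stb (adM k) S.C := by
  refine ⟨fun m hm y hy x => ?_, fun y hy x => ?_⟩
  · obtain ⟨x', h⟩ := S.norm_ψ (inv_mem hm) x
    rw [← mulVec_mul, show S.ψ x * m = m * S.ψ x' by rw [← h]; group, mulVec_mul, hy]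
  · rw [← S.k_σ_ψ x, ← S.sv_mulVec wrep_L, hy]

/-- Case 2: the fixed points of `A` on the Lie algebra are central -/
def FixZ : Prop := ∀ y : chevE7.Idx → k, (∀ x, adM k (S.ψ x) *ᵥ y = y) → y ∈ Zc k

/-- a perfect group which fixes `y` modulo a space of fixed points fixes `y` -/
theorem fix_of_mod' {I : Type} [Fintype I] [DecidableEq I] (R : Gh k →* Matrix I I k) {y : I → k}
    (h : ∀ x x', R (S.ψ x') *ᵥ (R (S.ψ x) *ᵥ y - y) = R (S.ψ x) *ᵥ y - y) (x : SpecialLinearGroup (Fin 2) K) :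
    R (S.ψ x) *ᵥ y = y := by
  let f : SpecialLinearGroup (Fin 2) K →* Multiplicative (I → k) := MonoidHom.mk'
    (fun x => Multiplicative.ofAdd (R (S.ψ x) *ᵥ y - y)) fun x x' => by
      rw [← ofAdd_add, map_mul, mulVec_mul, ← h x' x, mulVec_sub]
      congr 1
      abel
  have h1 : x ∈ f.ker := Abelianization.commutator_subset_ker f (S.perfect ▸ Subgroup.mem_top x)
  exact sub_eq_zero.1 (ofAdd_eq_one.1 h1)

/-- fixed points modulo the centre are fixed points -/
theorem fix_of_mod {y : chevE7.Idx → k} (h : ∀ x, adM k (S.ψ x) *ᵥ y - y ∈ Zc k) : y ∈ S.C :=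
  S.fix_of_mod' (adM k) fun x _ => adM_Zc (h x) _

variable {S} in
theorem FixZ.of_mod (hZ : S.FixZ) {y : chevE7.Idx → k} (h : ∀ x, adM k (S.ψ x) *ᵥ y - y ∈ Zc k) : y ∈ Zc k :=
  hZ y (S.fix_of_mod h)

/-- a line which is stable under `A` is fixed -/
theorem fix_of_line {I : Type} [Fintype I] [DecidableEq I] (R : Gh k →* Matrix I I k) {y : I → k}
    (h : ∀ x, ∃ c : k, R (S.ψ x) *ᵥ y = c • y) (x : SpecialLinearGroup (Fin 2) K) : R (S.ψ x) *ᵥ y = y := by
  by_cases h0 : y = 0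
  · rw [h0, mulVec_zero]
  choose c hc using h
  have h1 : ∀ x x', c (x * x') = c x * c x' := fun x x' => smul_left_injective k h0 (by
    show c (x * x') • y = (c x * c x') • y
    rw [← hc, map_mul, mulVec_mul, hc x', mulVec_smul, hc x, smul_smul, mul_comm])
  have h2 : c 1 = 1 := smul_left_injective k h0 (by
    show c 1 • y = (1 : k) • y
    rw [← hc, map_one, map_one, one_mulVec, one_smul])
  let f : SpecialLinearGroup (Fin 2) K →* k := ⟨⟨c, h2⟩, h1⟩
  have h3 : x ∈ f.toHomUnits.ker := Abelianization.commutator_subset_ker _ (S.perfect ▸ Subgroup.mem_top x)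
  have h4 : c x = 1 := congrArg Units.val h3
  rw [hc, h4, one_smul]

end Sit

end Cfsg.Agent.E7P
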