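import Cfsg.Agent.E7P.Nt.White
import Cfsg.Agent.E7P.Frm.Weyl

/-!
# S5932, `p = 2` : the top space of `ω₂` in the 56-dimensional module (helper98)

* `Ca.Sp K n` : the span of the first `n` vectors of the chain `ω₇, ω₇ - α₇, …` (the top spaces of `ω₇, ω₆, ω₅, ω₄, ω₂` for
  `n = 1, 2, 3, 4, 7`);
* `Ca.real` : every invertible matrix on `Sp K 7` is induced by an element of the group;
* `Ca.gauss` : the stabiliser of a subspace of dimension 2 or 4 of `Sp K 7` is conjugate into `P_{ω₆}` or `P_{ω₄}`.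
-/

set_option autoImplicit false
set_option maxRecDepth 100000

namespace Cfsg.Agent.E7P.Ca

open Cfsg Cfsg.Lie Matrix Module
open Cfsg.Agent.ChevalleyStructure.RootVec
open Cfsg.Agent.H943.E7V.Block (D1 rho)
open Cfsg.Agent.R2.T1 Cfsg.Agent.E7P.Kf
open Cfsg.Agent.R2.PX (mmn)

universe u

variable {K : Type u} [Field K]

/-- the chain of weights -/
def tl : List ℕ := [238, 237, 236, 235, 234, 233, 225]

theorem tl_ok : ∀ i : Fin 7, tl.getD i 0 < chevE8.nroots ∧ rt chevE8 (tl.getD i 0) 7 = 1 := by decide +kernel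

/-- the chain of weights -/
def tw (i : Fin 7) : D1 := ⟨⟨tl.getD i 0, (tl_ok i).1⟩, (tl_ok i).2⟩

theorem nn_tw (i : Fin 7) : nn (tw i) = tl.getD i 0 := rfl

theorem tw_inj {i j : Fin 7} (h : tw i = tw j) : i = j :=
  (by decide : ∀ i j : Fin 7, tl.getD i 0 = tl.getD j 0 → i = j) i j (congrArg nn h)

/-- the roots `tw i - tw j` -/
def RR (i j : Fin 7) : ℕ := ([[0, 63, 65, 68, 72, 77, 98], [62, 0, 64, 67, 71, 76, 97], [60, 61, 0, 66, 70, 75, 96],
  [57, 58, 59, 0, 69, 74, 95], [53, 54, 55, 56, 0, 73, 94], [48, 49, 50, 51, 52, 0, 93],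
  [27, 28, 29, 30, 31, 32, 0]].getD i []).getD j 0

theorem chk_RR : ∀ i j : Fin 7, i ≠ j → RR i j < 126 ∧ ∀ l : Fin 7,
    mv (RR i j) (tl.getD l 0) = if l = j then some (tl.getD i 0, 1) else none := by decide +kernel

theorem chk_wc : ∀ l : Fin 7, wc (tw l) = ![![0, 0, 0, 0, 0, 0, 1], ![0, 0, 0, 0, 0, 1, -1], ![0, 0, 0, 0, 1, -1, 0],
    ![0, 0, 0, 1, -1, 0, 0], ![0, 1, 1, -1, 0, 0, 0], ![1, 1, -1, 0, 0, 0, 0], ![-1, 1, 0, 0, 0, 0, 0]] l := by
  decide +kernel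

variable (K) in
/-- the embedding -/
def Em : Matrix D1 (Fin 7) K := of fun s i => if s = tw i then 1 else 0

theorem mul_Em (A : Matrix D1 D1 K) (s : D1) (l : Fin 7) : (A * Em K) s l = A s (tw l) := by
  simp [mul_apply, Em]

theorem Em_tw (c : Fin 7 → K) (i : Fin 7) : (Em K *ᵥ c) (tw i) = c i := by
  rw [mulVec, dotProduct, Finset.sum_eq_single i (fun j _ hj => by
    rw [Em, of_apply, if_neg fun e => hj (tw_inj e).symm, zero_mul]) fun h => absurd (Finset.mem_univ _) h,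
    Em, of_apply, if_pos rfl, one_mul]

theorem Em_ne {c : Fin 7 → K} {s : D1} (h : (Em K *ᵥ c) s ≠ 0) : ∃ i, s = tw i ∧ c i ≠ 0 := by
  obtain ⟨i, -, hi⟩ := Finset.exists_ne_zero_of_sum_ne_zero (show ∑ i, Em K s i * c i ≠ 0 from h)
  refine ⟨i, ?_, right_ne_zero_of_mul hi⟩
  by_contra e
  rw [Em, of_apply, if_neg e, zero_mul] at hi
  exact hi rfl

/-- **`GL₇` in the Levi subgroup** -/
theorem real [IsAlgClosed K] (M : Matrix (Fin 7) (Fin 7) K) (hM : det M ≠ 0) : ∃ h, rho K h * Em K = Em K * M := by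
  refine diagonal_transvection_induction_of_det_ne_zero (fun M => ∃ h, rho K h * Em K = Em K * M) M hM
    (fun D hD => ?_) (fun t => ?_) ?_
  · rw [det_diagonal, Finset.prod_ne_zero_iff] at hD
    have h1 : ∀ i, D i ≠ 0 := fun i => hD i (Finset.mem_univ i)
    obtain ⟨ρ, hρ⟩ := IsAlgClosed.exists_pow_nat_eq (D 0 * D 1 * D 2 * D 3 * D 4 * D 5 * D 6) (n := 3) (by norm_num)
    have h2 : ρ ≠ 0 := by
      rintro rfl
      simp [h1] at hρ
    let a : Fin 7 → K := ![ρ / D 6, ρ, D 0 * D 1 * D 2 * D 3 * D 4 / ρ, D 0 * D 1 * D 2 * D 3, D 0 * D 1 * D 2, D 0 * D 1, D 0]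
    have h3 : ∀ i, a i ≠ 0 := fun i => by fin_cases i <;> simp [a, h1, h2]
    let a' : Fin chevE7.rank → Kˣ := fun i : Fin 7 => Units.mk0 _ (h3 i)
    have h4 : ∀ l, ((ch (wc (tw l)) a' : Kˣ) : K) = D l := fun l => by
      have h5 : ((ch (wc (tw l)) a' : Kˣ) : K) = ∏ i : Fin 7, a i ^ wc (tw l) i := by
        rw [ch, Units.coe_prod]
        exact Finset.prod_congr rfl fun i _ => Units.val_zpow_eq_zpow_val _ _
      rw [h5, Fin.prod_univ_seven, chk_wc]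
      have h6 : D 5 = ρ ^ 3 / (D 0 * D 1 * D 2 * D 3 * D 4 * D 6) := by rw [hρ]; field_simp [h1]
      fin_cases l <;> simp [a, h6] <;> field_simp [h1]
    refine ⟨Phi K a', ?_⟩
    ext s l
    rw [wrep_V.tor, diagonal_mul, mul_diagonal, Em, of_apply]
    split_ifs with e
    · rw [e, h4, mul_one, one_mul]
    · rw [mul_zero, zero_mul]
  · obtain ⟨h1, h2⟩ := chk_RR t.i t.j t.hij
    refine ⟨xs K (RR t.i t.j) t.c, ?_⟩
    ext s l
    rw [rho_xs' h1, Matrix.add_mul, Matrix.one_mul, TransvectionStruct.toMatrix, transvection, Matrix.mul_add,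
      Matrix.mul_one, Matrix.add_apply, Matrix.add_apply, mul_Em, Matrix.smul_apply, NM, of_apply]
    congr 1
    have h3 := h2 l
    split_ifs at h3 with e
    · rw [nz_some (b := tw l) (a' := tw t.i) h3, e, mul_single_apply_same, Em, of_apply]
      split_ifs <;> simp
    · rw [nz_none (b := tw l) h3, mul_single_apply_of_ne _ _ _ _ _ e, Int.cast_zero, smul_zero]
  · rintro A B - - ⟨g, hg⟩ ⟨h, hh⟩
    exact ⟨g * h, by rw [map_mul, Matrix.mul_assoc, hh, ← Matrix.mul_assoc, hg, Matrix.mul_assoc]⟩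

variable (K) in
/-- the initial segments -/
def Sp (n : ℕ) : Submodule K (D1 → K) where
  carrier := {x | ∀ s, x s ≠ 0 → ∃ i : Fin 7, i.val < n ∧ s = tw i}
  zero_mem' := fun _ h => absurd rfl h
  add_mem' := by
    intro x y hx hy i hi
    by_cases h : x i = 0
    · rw [Pi.add_apply, h, zero_add] at hi
      exact hy i hi
    · exact hx i h
  smul_mem' := fun _ _ hx i hi => hx i (right_ne_zero_of_mul hi)

theorem Sp_le (n : ℕ) : Sp K n ≤ Sp K 7 := fun _ hx s hs => (hx s hs).imp fun i hi => ⟨i.2, hi.2⟩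

theorem eq_Em {n : ℕ} {x : D1 → K} (hx : x ∈ Sp K n) : x = Em K *ᵥ fun i => x (tw i) := by
  funext s
  by_cases h : ∃ i, s = tw i
  · obtain ⟨i, rfl⟩ := h
    rw [Em_tw]
  · rw [of_not_not fun e : ¬ x s = 0 => h ((hx s e).imp fun _ e' => e'.2),
      of_not_not fun e : ¬ (Em K *ᵥ fun i => x (tw i)) s = 0 => h ((Em_ne e).imp fun _ e' => e'.1)]

/-- the fundamental weights -/
abbrev om (j : Fin 7) : E := cv (Pi.single j 1)

theorem dom_om (j : Fin 7) : Dom (om j) := fun i => by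
  show (0 : ℝ) ≤ (((Pi.single j 1 : Fin 7 → ℤ) i : ℤ) : ℝ)
  rw [Pi.single_apply]
  split_ifs <;> simp

theorem bf_om (j : Fin 7) (s : D1) : bf (om j) (wv s) = (mmn (nn s) j : ℝ) / 2 := by
  rw [bf_symm, bf_def, ← nt_chk_mmn _ (nn_lt s) (rt_nn s) j j.2, sum7]
  push_cast
  rw [Finset.sum_div]
  refine Finset.sum_congr rfl fun i _ => ?_
  rw [Finset.sum_eq_single j (fun l _ hl => by simp [cv, hl]) fun h => absurd (Finset.mem_univ _) h]
  simp only [cv, wv, wc, Pi.single_eq_same, Int.cast_one]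
  ring

theorem chk_top : ∀ q ∈ [((6 : Fin 7), (3 : ℤ), 1), (5, 4, 2), (4, 5, 3), (3, 6, 4), (1, 3, 7)], ∀ s < 240,
    rt chevE8 s 7 = 1 → (q.2.1 ≤ mmn s q.1 ↔ ∃ i : Fin 7, i.val < q.2.2 ∧ s = tl.getD i 0) := by decide +kernel

theorem Ge_eq {j : Fin 7} {d : ℤ} {n : ℕ}
    (h : (j, d, n) ∈ [((6 : Fin 7), (3 : ℤ), 1), (5, 4, 2), (4, 5, 3), (3, 6, 4), (1, 3, 7)]) :
    Ge K wc (om j) (d / 2) = Sp K n := by
  ext x
  refine forall_congr' fun s => imp_congr_right fun _ => ?_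
  have h1 := chk_top _ h _ (nn_lt s) (rt_nn s)
  rw [show cv (wc s) = wv s from rfl, bf_om, div_le_div_iff_of_pos_right two_pos, Int.cast_le, h1]
  exact exists_congr fun i => and_congr_right fun _ => ⟨fun e => nn_inj e, fun e => congrArg nn e⟩

/-- the stabiliser of a top space -/
theorem mem_Pl_of_top [Infinite K] {β : E} (hβ : Dom β) {d : ℝ} (A : Finset D1) (h1 : β = ∑ a ∈ A, wv a)
    (h2 : ∀ a ∈ A, bf β (wv a) = d) {y : Gh K} (h : ∀ x ∈ Ge K wc β d, rho K y *ᵥ x ∈ Ge K wc β d) : y ∈ Pl K β := by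
  obtain ⟨b, b', l, hb, hb', e⟩ := bruhat y
  have h3 : ∀ a ∈ A, d ≤ bf β (wL l (wv a)) := fun a ha => by
    obtain ⟨i, hi⟩ := exists_ne (rho K) (nL K l) a
    have h4 : rho K (nL K l) *ᵥ Pi.single a 1 ∈ Ge K wc β d := by
      rw [show nL K l = b⁻¹ * (y * b'⁻¹) by rw [e]; group, mulVec_mul, mulVec_mul]
      refine wrep_V.Ge_stab (inv_mem (hb β hβ)) (h _ (wrep_V.Ge_stab (inv_mem (hb' β hβ)) fun s hs => ?_))
      rw [of_not_not fun e : ¬ s = a => hs (Pi.single_eq_of_ne e _)]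
      exact (h2 a ha).ge
    rw [← show wv i = wL l (wv a) from wrep_V.mon_nL l i a hi]
    exact h4 i (by rwa [mulVec_single_one])
  have h4 : β = wL l β := bf_pd.eq_of_le (by
    conv_lhs => rw [show bf β β = bf β (∑ a ∈ A, wv a) by rw [← h1]]
    conv_rhs => rw [show wL l β = wL l (∑ a ∈ A, wv a) by rw [← h1]]
    rw [map_sum, map_sum, map_sum]
    exact Finset.sum_le_sum fun a ha => (h2 a ha).trans_le (h3 a ha)) (wL_iso l β β).le
  rw [e]
  exact mul_mem (mul_mem (hb β hβ) (nL_mem hβ _ l le_rfl h4.symm)) (hb' β hβ)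

theorem mem_Pl_two [Infinite K] {y : Gh K} (h : ∀ x ∈ Sp K 2, rho K y *ᵥ x ∈ Sp K 2) : y ∈ Pl K (om 5) := by
  rw [← Ge_eq (j := 5) (d := 4) (by simp)] at h
  refine mem_Pl_of_top (dom_om 5) {tw 0, tw 1} ?_ ?_ h
  · rw [Finset.sum_pair fun e => absurd (tw_inj e) (by decide), wv, wv, ← cv_add]
    exact congrArg cv (by decide +kernel)
  · simp only [Finset.mem_insert, Finset.mem_singleton]
    rintro _ (rfl | rfl) <;> rw [bf_om] <;> rfl

theorem mem_Pl_four [Infinite K] {y : Gh K} (h : ∀ x ∈ Sp K 4, rho K y *ᵥ x ∈ Sp K 4) : y ∈ Pl K (om 3) := by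
  rw [← Ge_eq (j := 3) (d := 6) (by simp)] at h
  refine mem_Pl_of_top (dom_om 3) (({0, 1, 2, 3} : Finset (Fin 7)).map ⟨tw, fun _ _ => tw_inj⟩) ?_ ?_ h
  · rw [Finset.sum_map]
    simp only [wv, ← cv_sum]
    exact congrArg cv (by decide +kernel)
  · simp only [Finset.mem_map, Finset.mem_insert, Finset.mem_singleton]
    rintro _ ⟨_, rfl | rfl | rfl | rfl, rfl⟩ <;> rw [bf_om] <;> rfl

/-- **Gauss** -/
theorem gauss [IsAlgClosed K] {Y : Submodule K (D1 → K)} (hY : Y ≤ Sp K 7) {n : ℕ} (hn : finrank K Y = n)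
    (h7 : Fintype.card {i : Fin 7 | i.val < n} = n) : ∃ h : Gh K, ∀ y, (∀ x ∈ Y, rho K y *ᵥ x ∈ Y) →
      ∀ x ∈ Sp K n, rho K (h * y * h⁻¹) *ᵥ x ∈ Sp K n := by
  let En : Submodule K (Fin 7 → K) := ⨅ i ∈ {i : Fin 7 | n ≤ i.val}, LinearMap.ker (LinearMap.proj i)
  have hE : ∀ c, c ∈ En ↔ ∀ i : Fin 7, n ≤ i.val → c i = 0 := fun c => by simp [En]
  have h1 : finrank K En = n := by
    rw [(LinearMap.iInfKerProjEquiv K (fun _ : Fin 7 => K) (I := {i : Fin 7 | i.val < n})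
      (J := {i : Fin 7 | n ≤ i.val}) (Set.disjoint_left.2 fun i h h' => (not_lt.2 (show n ≤ i.val from h')) h)
      fun i _ => (lt_or_ge i.val n :)).finrank_eq,
      finrank_fintype_fun_eq_card, h7]
  have h2 : Function.Injective (toLin' (Em K)) := fun c c' e => funext fun i => by
    rw [← Em_tw c i, ← Em_tw c' i]
    exact congrFun e _
  have h3 : (Y.comap (toLin' (Em K))).map (toLin' (Em K)) = Y :=
    Submodule.map_comap_eq_self fun x hx => ⟨fun i => x (tw i), (eq_Em (hY hx)).symm⟩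
  have h4 : finrank K (Y.comap (toLin' (Em K))) = finrank K En := by
    rw [(Submodule.equivMapOfInjective _ h2 _).finrank_eq, h3, hn, h1]
  let f := LinearEquiv.ofFinrankEq _ _ h4
  obtain ⟨g, hg⟩ := Submodule.exists_linearEquiv_restrict_eq f
  obtain ⟨h, hh⟩ := real (LinearMap.toMatrix' (g : (Fin 7 → K) →ₗ[K] (Fin 7 → K)))
    (by rw [LinearMap.det_toMatrix']; exact g.isUnit_det'.ne_zero)
  have h5 : ∀ c, rho K h *ᵥ (Em K *ᵥ c) = Em K *ᵥ g c := fun c => by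
    rw [mulVec_mulVec, hh, ← mulVec_mulVec, LinearMap.toMatrix'_mulVec]
    rfl
  refine ⟨h, fun y hy x hx => ?_⟩
  obtain ⟨c, hc⟩ := f.surjective ⟨fun i => x (tw i), (hE _).2 fun i hi => of_not_not fun e => by
    obtain ⟨j, hj, e'⟩ := hx _ e
    rw [tw_inj e'] at hi
    omega⟩
  have h6 : x = rho K h *ᵥ (Em K *ᵥ c) := by
    rw [h5, ← hg, hc]
    exact eq_Em hx
  obtain ⟨c', hc', e⟩ := h3.ge (hy _ c.2)
  rw [h6, mulVec_mul, mulVec_inv, mulVec_mul, show rho K y *ᵥ (Em K *ᵥ c) = Em K *ᵥ c' from e.symm, h5,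
    ← hg ⟨c', hc'⟩]
  intro s hs
  obtain ⟨i, e1, e2⟩ := Em_ne hs
  exact ⟨i, lt_of_not_ge fun e3 => e2 ((hE _).1 (f ⟨c', hc'⟩).2 i e3), e1⟩

end Cfsg.Agent.E7P.Ca
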