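import Cfsg.Agent.E7P.P2.CaG
import Cfsg.Agent.E7P.P2.CaV
import Cfsg.Agent.R2.H6P2.FS

/-!
# S5932, `p = 2` : irreducibility (helper98)

* `Sit.ca_sub` : a stable subspace `T ≠ 0` contains a stable subspace whose dimension is a power of 2;
* `Sit.ca_irr` : if `g ^ A` is central then `A` lies in no proper parabolic subgroup.
-/

set_option autoImplicit false
set_option maxRecDepth 100000

namespace Cfsg.Agent.E7P

open Cfsg Cfsg.Lie Matrix Module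
open Cfsg.Agent.H943.E7V.Block (D1 rho)
open Cfsg.Agent.R2.T1 Cfsg.Agent.E7P.Kf Cfsg.Agent.E7P.Ca Cfsg.Agent.H943.RepAdd
open Cfsg.Agent.R2.T1.N6D (Zc zv Zc_eq L_of_mem zv_mem cast_even)

universe u v

/-- the differentials of `ω₁, ω₃, ω₄, ω₆` modulo the centre -/
theorem Ca.chk_tor : ∀ q ∈ [((0 : Fin 7), (1 : Fin 7), (![0, 1, 1, 0, 0, 0, 0] : Fin 7 → ℤ)), (2, 0, ![1, 0, 0, 0, 0, 0, 0]),
    (3, 1, ![0, 1, 0, 0, 0, 0, 0]), (5, 1, ![0, 1, 0, 0, 1, 0, 0])], q.2.2 6 = 0 ∧ q.2.2 q.2.1 = 1 ∧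
      ∀ r < 126, pc r (Pi.single q.1 1) = 0 → (∑ i : Fin 7, chevE7.cartan i r * q.2.2 i) % 2 = 0 := by decide +kernel

namespace Sit

variable {p a b : ℕ} {F : Type u} {K : Type v} {k : Type u} [Field F] [Fintype F] [Field K] [Fintype K] [Field k]
  (S : Sit p a b F K k)

theorem ca_tor (hp : p = 2) (hz : ∀ y, (∀ x, adM k (S.ψ x) *ᵥ y = y) → y ∈ Zc k) {j : Fin 7}
    (hj : j = 0 ∨ j = 2 ∨ j = 3 ∨ j = 5) {g : Gh k} (hg : ∀ x, g⁻¹ * S.ψ x * g ∈ Pl k (om j)) : False := by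
  classical
  have h2 := S.ca_two hp
  obtain ⟨i, c, h3, h4, h5⟩ : ∃ (i : Fin 7) (c : Fin 7 → ℤ), c 6 = 0 ∧ c i = 1 ∧
      ∀ r < 126, pc r (Pi.single j 1) = 0 → (∑ i : Fin 7, chevE7.cartan i r * c i) % 2 = 0 := by
    rcases hj with rfl | rfl | rfl | rfl
    · exact ⟨_, _, chk_tor _ (.head _)⟩
    · exact ⟨_, _, chk_tor _ (.tail _ (.head _))⟩
    · exact ⟨_, _, chk_tor _ (.tail _ (.tail _ (.head _)))⟩
    · exact ⟨_, _, chk_tor _ (.tail _ (.tail _ (.tail _ (.head _))))⟩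
  have h6 : ∀ t : k, (t • zv k) (Sum.inl (6 : Fin 7)) = t := fun t =>
    (congrArg (t * ·) (Int.cast_one : zv k (Sum.inl (6 : Fin 7)) = 1)).trans (mul_one t)
  refine S.irr_tor (fun i => i = Sum.inl (6 : Fin 7)) (by rintro _ rfl; rfl) (Zc k)
    (fun y w hw => (L_mulVec y w).symm.trans (L_of_mem hw y)) hz
    (fun w => ⟨w (Sum.inl (6 : Fin 7)) • zv k, Submodule.smul_mem _ _ (zv_mem h2), ?_⟩) (fun n hn h => ?_)
    (l := fun i => (c i : k)) (fun r hr h => ?_) ?_ (fun h => ?_) hg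
  · rintro _ rfl
    exact (h6 _).symm
  · rw [Zc_eq h2, Submodule.mem_span_singleton] at hn
    obtain ⟨t, rfl⟩ := hn
    rw [(h6 t).symm.trans (h _ rfl), zero_smul]
  · have h7 := cast_even h2 (h5 r hr h)
    push_cast at h7
    exact h7
  · rintro _ rfl
    show ((c 6 : ℤ) : k) = 0
    rw [h3, Int.cast_zero]
  · have h7 : ((c i : ℤ) : k) = 0 := congrFun h i
    rw [h4, Int.cast_one] at h7
    exact one_ne_zero h7

include S in
/-- minimal stable subspaces -/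
theorem ca_sub (hp : p = 2) {V : Type*} [AddCommGroup V] [Module k V] [FiniteDimensional k V]
    (ρ : Representation k (SpecialLinearGroup (Fin 2) K) V) {T : Submodule k V} (hT : ∀ g, ∀ x ∈ T, ρ g x ∈ T)
    (h0 : T ≠ ⊥) : ∃ Y ≤ T, (∀ g, ∀ x ∈ Y, ρ g x ∈ Y) ∧ ∃ n, finrank k Y = 2 ^ n := by
  classical
  subst hp
  have := S.chark
  have := S.charK
  have := S.closed
  obtain ⟨Y, ⟨h1, h2, h3⟩, hmin⟩ := (wellFounded_lt (α := Submodule k V)).has_min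
    {W | W ≠ ⊥ ∧ W ≤ T ∧ ∀ g, ∀ x ∈ W, ρ g x ∈ W} ⟨T, h0, le_rfl, hT⟩
  refine ⟨Y, h2, h3, (R2.H6P2.altZ_irr.{u, 0} S.ι (ρ := subRep ρ Y h3)
    ⟨Submodule.nontrivial_iff_ne_bot.2 h1, fun W hW => ?_⟩).2⟩
  refine or_iff_not_imp_left.2 fun h4 => Submodule.map_injective_of_injective Y.subtype_injective ?_
  rw [Submodule.map_subtype_top]
  refine (Y.map_subtype_le W).eq_of_not_lt (hmin _ ⟨fun e => h4 ?_, (Y.map_subtype_le W).trans h2, ?_⟩)
  · exact Submodule.map_injective_of_injective Y.subtype_injective (by rw [e, Submodule.map_bot])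
  · rintro g _ ⟨x, hx, rfl⟩
    exact ⟨_, hW g x hx, rfl⟩

include S in
/-- stable lines are fixed -/
theorem ca_line {V : Type*} [AddCommGroup V] [Module k V] (ρ : Representation k (SpecialLinearGroup (Fin 2) K) V)
    {Y : Submodule k V} (hY : ∀ g, ∀ x ∈ Y, ρ g x ∈ Y) (h1 : finrank k Y = 1) : ∃ y ∈ Y, y ≠ 0 ∧ ∀ g, ρ g y = y := by
  obtain ⟨y, h0, h2⟩ := finrank_eq_one_iff'.1 h1
  have h3 : ∀ g, ∃ c : k, ∀ x ∈ Y, ρ g x = c • x := fun g => by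
    obtain ⟨c, hc⟩ := h2 ⟨_, hY g y y.2⟩
    refine ⟨c, fun x hx => ?_⟩
    obtain ⟨d, hd⟩ := h2 ⟨x, hx⟩
    rw [show x = d • (y : V) from (congrArg Subtype.val hd).symm, map_smul, smul_comm]
    exact congrArg (d • ·) (congrArg Subtype.val hc).symm
  let T : Subgroup (SpecialLinearGroup (Fin 2) K) :=
    { carrier := {g | ρ g y = y}
      one_mem' := by simp
      mul_mem' := fun {g g'} e e' => by
        show ρ (g * g') y = y
        rw [map_mul, End.mul_apply, e', e]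
      inv_mem' := fun {g} e => by
        show ρ g⁻¹ y = y
        nth_rewrite 1 [← e]
        rw [← End.mul_apply, ← map_mul, inv_mul_cancel, map_one, End.one_apply] }
  refine ⟨y, y.2, fun e => h0 (Subtype.ext e), S.nt_all (T := T) fun g g' => ?_⟩
  obtain ⟨c, hc⟩ := h3 g'
  show ρ (g * g' * g⁻¹ * g'⁻¹) y = y
  have h4 := hY g'⁻¹ y y.2
  rw [map_mul, map_mul, map_mul, End.mul_apply, End.mul_apply, End.mul_apply, hc _ (hY _ _ h4), map_smul,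
    ← End.mul_apply, ← map_mul, mul_inv_cancel, map_one, End.one_apply, ← hc _ h4, ← End.mul_apply, ← map_mul,
    mul_inv_cancel, map_one, End.one_apply]

theorem ca_top (hp : p = 2) (hz : ∀ y, (∀ x, adM k (S.ψ x) *ᵥ y = y) → y ∈ Zc k) {n : ℕ} (hn : 0 < n) {g : Gh k}
    (hg : ∀ x, ∀ v ∈ Sp k n, rho k (g⁻¹ * S.ψ x * g) *ᵥ v ∈ Sp k n) : False := by
  have := S.closed
  have hg' : ∀ x, ∀ v, V k (MulAut.conj g⁻¹ (S.ψ x)) v = rho k (g⁻¹ * S.ψ x * g) *ᵥ v := fun x v => by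
    rw [MulAut.conj_apply, inv_inv, V_apply]
  obtain ⟨Y, h1, h2, e, h3⟩ := S.ca_sub hp (MonoidHom.comp (V k) ((MulAut.conj g⁻¹).toMonoidHom.comp S.ψ))
    (T := Sp k n) (fun x v hv => (hg' x v).symm ▸ hg x v hv) fun e => by
      have h1 : Pi.single (tw 0) 1 ∈ Sp k n := fun s hs =>
        ⟨0, hn, of_not_not fun e : ¬ s = tw 0 => hs (Pi.single_eq_of_ne e _)⟩
      rw [e, Submodule.mem_bot] at h1
      exact one_ne_zero (Pi.single_eq_zero_iff.1 h1)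
  have h4 := h1.trans (Sp_le n)
  have h5 : finrank k Y ≤ 7 := by
    refine (Submodule.finrank_mono (t := LinearMap.range (toLin' (Em k))) fun x hx =>
      ⟨fun i => x (tw i), (eq_Em (h4 hx)).symm⟩).trans ((LinearMap.finrank_range_le _).trans_eq ?_)
    rw [finrank_fintype_fun_eq_card, Fintype.card_fin]
  have h6 : ∀ x, ∀ v ∈ Y, rho k (g⁻¹ * S.ψ x * g) *ᵥ v ∈ Y := fun x v hv => hg' x v ▸ h2 x v hv
  have h7 : ∀ h x, (g * h⁻¹)⁻¹ * S.ψ x * (g * h⁻¹) = h * (g⁻¹ * S.ψ x * g) * h⁻¹ := fun h x => by group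
  have h8 : e < 3 := (Nat.pow_lt_pow_iff_right one_lt_two).1 (by omega)
  interval_cases e
  · obtain ⟨y, -, h9, h10⟩ := S.ca_line _ h2 h3
    refine h9 ?_
    rw [← mulVec_inv (rho k) g y, S.ca_nofixV hp hz (rho k g *ᵥ y) fun x => ?_, mulVec_zero]
    nth_rewrite 2 [← (hg' x y).symm.trans (h10 x)]
    rw [← mulVec_mul, ← mulVec_mul, show g * (g⁻¹ * S.ψ x * g) = S.ψ x * g by group]
  · obtain ⟨h, hh⟩ := gauss h4 h3 (by decide)
    exact S.ca_tor hp hz (j := 5) (by decide) (g := g * h⁻¹) fun x => h7 h x ▸ mem_Pl_two (hh _ (h6 x))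
  · obtain ⟨h, hh⟩ := gauss h4 h3 (by decide)
    exact S.ca_tor hp hz (j := 3) (by decide) (g := g * h⁻¹) fun x => h7 h x ▸ mem_Pl_four (hh _ (h6 x))

/-- **irreducibility** for `p = 2` -/
theorem ca_irr (hp : p = 2) (hz : ∀ y, (∀ x, adM k (S.ψ x) *ᵥ y = y) → y ∈ Zc k) {g : Gh k} {β : E} (h0 : β ≠ 0)
    (hg : ∀ x, g⁻¹ * S.ψ x * g ∈ Pl k β) : False := by
  obtain ⟨l, hl⟩ := exists_dom β
  obtain ⟨j, hj⟩ := Function.ne_iff.1 (wL_ne (l := l) h0)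
  have h1 : ∀ x, (g * (nL k l)⁻¹)⁻¹ * S.ψ x * (g * (nL k l)⁻¹) ∈ Pl k (om j) := fun x => by
    rw [show (g * (nL k l)⁻¹)⁻¹ * S.ψ x * (g * (nL k l)⁻¹) = nL k l * (g⁻¹ * S.ψ x * g) * (nL k l)⁻¹ by group]
    refine Pl_le_of_supp hl (dom_om j) (fun i hi => ?_) (nL_conj_Pl l (hg x))
    show (((Pi.single j 1 : Fin 7 → ℤ) i : ℤ) : ℝ) = 0
    rw [Pi.single_eq_of_ne fun e : i = j => hj (e ▸ hi), Int.cast_zero]
  rcases (by decide : ∀ j : Fin 7, (j = 0 ∨ j = 2 ∨ j = 3 ∨ j = 5) ∨ j = 1 ∨ j = 4 ∨ j = 6) j with h | rfl | rfl | rfl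
  · exact S.ca_tor hp hz h h1
  · refine S.ca_top hp hz (n := 7) (by norm_num) (g := g * (nL k l)⁻¹) fun x v => ?_
    rw [← Ge_eq (j := 1) (d := 3) (by simp)]
    exact wrep_V.Ge_stab (h1 x)
  · refine S.ca_top hp hz (n := 3) (by norm_num) (g := g * (nL k l)⁻¹) fun x v => ?_
    rw [← Ge_eq (j := 4) (d := 5) (by simp)]
    exact wrep_V.Ge_stab (h1 x)
  · refine S.ca_top hp hz (n := 1) (by norm_num) (g := g * (nL k l)⁻¹) fun x v => ?_
    rw [← Ge_eq (j := 6) (d := 3) (by simp)]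
    exact wrep_V.Ge_stab (h1 x)

end Sit

end Cfsg.Agent.E7P
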