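import Mathlib

/-!
# S5932, `p = 2`, Case 2b: linear algebra (helper92)

* `Hb.pencil` : commuting operators of square zero, all of them free : `2 ^ d` divides the dimension;
* `Hb.ker_big` : the common kernel of commuting operators of square zero is large;
* `Hb.sum_pos`, `Hb.exists_eig`.
-/

set_option autoImplicit false

namespace Cfsg.Agent.E7P.Hb

open Module

universe u v

variable {k : Type u} [Field k]

/-- two commuting operators, such that all the combinations are free -/
theorem pen_step [IsAlgClosed k] {V : Type v} [AddCommGroup V] [Module k V] [FiniteDimensional k V] {x y : End k V}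
    (hx : x * x = 0) (hy : y * y = 0) (hc : x * y = y * x) (hf : ∀ v, x v = 0 → ∃ u, v = x u)
    (hg : ∀ (c : k) v, (y - c • x) v = 0 → ∃ u, v = (y - c • x) u) {v : V} (h1 : x v = 0) (h2 : y v = 0) :
    ∃ u, v = y (x u) := by
  have hx' : ∀ u, x (x u) = 0 := fun u => LinearMap.congr_fun hx u
  have hy' : ∀ u, y (y u) = 0 := fun u => LinearMap.congr_fun hy u
  have hc' : ∀ u, x (y u) = y (x u) := fun u => LinearMap.congr_fun hc u
  -- `A = {u | x y u = 0}`, `B = ker x + ker y`-like subspace
  let N : Submodule k V := LinearMap.ker x ⊓ LinearMap.ker y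
  let M : Submodule k V := LinearMap.range (y * x)
  let A : Submodule k V := LinearMap.ker (y * x)
  let M' : Submodule k N := M.comap N.subtype
  let p : A →ₗ[k] N := LinearMap.codRestrict N (x ∘ₗ A.subtype) fun u => ⟨hx' _, u.2⟩
  let q : A →ₗ[k] N := LinearMap.codRestrict N (y ∘ₗ A.subtype) fun u => ⟨(hc' _).trans u.2, hy' _⟩
  let p' : A →ₗ[k] (N ⧸ M') := M'.mkQ ∘ₗ p
  let q' : A →ₗ[k] (N ⧸ M') := M'.mkQ ∘ₗ q
  have hps : Function.Surjective p' := by
    refine M'.mkQ_surjective.comp ?_
    rintro ⟨w, hw1, hw2⟩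
    obtain ⟨u, rfl⟩ := hf w hw1
    exact ⟨⟨u, hw2⟩, rfl⟩
  have hker : LinearMap.ker p' ≤ LinearMap.ker q' := by
    intro u hu
    obtain ⟨w, hw⟩ : x u ∈ M := (Submodule.Quotient.mk_eq_zero M').1 hu
    have h3 : x (u - y w) = 0 := by rw [map_sub, hc', ← hw]; exact sub_self _
    obtain ⟨t, ht⟩ := hf _ h3
    refine (Submodule.Quotient.mk_eq_zero M').2 ⟨t, ?_⟩
    show y (x t) = y u
    rw [← ht, map_sub, hy', sub_zero]
  let φ : End k (N ⧸ M') := ((LinearMap.ker p').liftQ q' hker) ∘ₗ (p'.quotKerEquivOfSurjective hps).symm.toLinearMap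
  have hφ : ∀ u, φ (p' u) = q' u := fun u => by
    have h3 : (p'.quotKerEquivOfSurjective hps).symm (p' u) = (LinearMap.ker p').mkQ u :=
      (LinearEquiv.symm_apply_eq _).2 rfl
    show ((LinearMap.ker p').liftQ q' hker) ((p'.quotKerEquivOfSurjective hps).symm (p' u)) = _
    rw [h3]
    rfl
  by_contra hne
  have hnt : Nontrivial (N ⧸ M') := ⟨⟨M'.mkQ ⟨v, h1, h2⟩, 0, fun h => hne (by
    obtain ⟨w, hw⟩ : v ∈ M := (Submodule.Quotient.mk_eq_zero M').1 h
    exact ⟨w, hw.symm⟩)⟩⟩
  obtain ⟨c, hc0⟩ := End.exists_eigenvalue φ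
  obtain ⟨e, he⟩ := hc0.exists_hasEigenvector
  obtain ⟨u, rfl⟩ := hps e
  have h3 : M'.mkQ (q u - c • p u) = 0 := by
    rw [map_sub, map_smul]
    exact sub_eq_zero.2 ((hφ u).symm.trans he.apply_eq_smul)
  obtain ⟨w, hw⟩ : y u - c • x u ∈ M := (Submodule.Quotient.mk_eq_zero M').1 h3
  have hw' : y (x w) = y u - c • x u := hw
  obtain ⟨t, ht⟩ := hg c (u - x w) (by
    rw [map_sub, LinearMap.sub_apply, LinearMap.sub_apply, LinearMap.smul_apply, LinearMap.smul_apply, hx', smul_zero,
      sub_zero, hw', sub_self])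
  refine he.2 ((Submodule.Quotient.mk_eq_zero M').2 ⟨t, ?_⟩)
  show y (x t) = x u
  have h4 := congrArg x ht
  rw [map_sub, hx', sub_zero, LinearMap.sub_apply, LinearMap.smul_apply, map_sub, map_smul, hx', smul_zero, sub_zero,
    hc'] at h4
  exact h4.symm

/-- **the pencil lemma** -/
theorem pencil [IsAlgClosed k] (d : ℕ) : ∀ {V : Type v} [AddCommGroup V] [Module k V] [FiniteDimensional k V]
    (f : (Fin d → k) →ₗ[k] End k V), (∀ a, f a * f a = 0) → (∀ a b, f a * f b = f b * f a) →
    (∀ a, a ≠ 0 → ∀ v, f a v = 0 → ∃ u, v = f a u) → 2 ^ d ∣ finrank k V := by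
  induction d with
  | zero => intros; exact one_dvd _
  | succ d ih =>
    intro V _ _ _ f h1 h2 h3
    let x := f (Pi.single 0 1)
    have hx0 : (Pi.single 0 1 : Fin (d + 1) → k) ≠ 0 := fun h => by simpa using congrFun h 0
    let N : Submodule k V := LinearMap.ker x
    have hN : LinearMap.range x = N := le_antisymm (by
      rintro _ ⟨u, rfl⟩
      exact LinearMap.congr_fun (h1 _) u) fun v hv => by
        obtain ⟨u, hu⟩ := h3 _ hx0 v hv
        exact ⟨u, hu.symm⟩
    have hdim : finrank k V = finrank k N * 2 := by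
      have h4 := LinearMap.finrank_range_add_finrank_ker x
      rw [hN] at h4
      rw [← h4, mul_two]
    let j : (Fin d → k) →ₗ[k] (Fin (d + 1) → k) := LinearMap.pi fun i => Fin.cases 0 (fun i => LinearMap.proj i) i
    have hst : ∀ a, ∀ v ∈ N, f a v ∈ N := fun a v hv => by
      have h4 : x (f a v) = f a (x v) := LinearMap.congr_fun (h2 _ a) v
      show x (f a v) = 0
      rw [h4, show x v = 0 from hv, map_zero]
    let g : (Fin d → k) →ₗ[k] End k N :=
      { toFun := fun a => (f (j a)).restrict (hst _)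
        map_add' := fun a b => LinearMap.ext fun v => Subtype.ext (by
          show f (j (a + b)) v = f (j a) v + f (j b) v
          rw [map_add, map_add, LinearMap.add_apply])
        map_smul' := fun c a => LinearMap.ext fun v => Subtype.ext (by
          show f (j (c • a)) v = c • f (j a) v
          rw [map_smul, map_smul, LinearMap.smul_apply]) }
    rw [hdim, pow_succ]
    refine Nat.mul_dvd_mul_right (ih g (fun a => LinearMap.ext fun v => Subtype.ext (LinearMap.congr_fun (h1 (j a)) v))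
      (fun a b => LinearMap.ext fun v => Subtype.ext (LinearMap.congr_fun (h2 (j a) (j b)) v)) fun a ha v hv => ?_) 2
    obtain ⟨u, hu⟩ := pen_step (x := x) (y := f (j a)) (h1 _) (h1 _) (h2 _ _) (h3 _ hx0) (fun c w hw => by
      have h4 : f (j a) - c • x = f (j a - c • Pi.single 0 1) := by rw [map_sub, map_smul]
      rw [h4] at hw ⊢
      refine h3 _ (fun h => ha (funext fun i => ?_)) w hw
      have h5 := congrFun h i.succ
      rw [Pi.sub_apply, Pi.smul_apply, Pi.single_eq_of_ne (Fin.succ_ne_zero i), smul_zero, sub_zero] at h5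
      exact h5) v.2 (congrArg Subtype.val hv)
    exact ⟨⟨x u, LinearMap.congr_fun (h1 _) u⟩, Subtype.ext hu⟩

/-- the pencil lemma for a subspace -/
theorem pencil' [IsAlgClosed k] {V : Type v} [AddCommGroup V] [Module k V] [FiniteDimensional k V] {U : Type*}
    [AddCommGroup U] [Module k U] [FiniteDimensional k U] (f : U →ₗ[k] End k V) (h1 : ∀ a, f a * f a = 0)
    (h2 : ∀ a b, f a * f b = f b * f a) (h3 : ∀ a, a ≠ 0 → ∀ v, f a v = 0 → ∃ u, v = f a u) :
    2 ^ finrank k U ∣ finrank k V := by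
  let e := (Module.finBasis k U).equivFun.symm
  exact pencil _ (f ∘ₗ e.toLinearMap) (fun a => h1 _) (fun a b => h2 _ _) fun a ha => h3 _ (e.map_ne_zero_iff.2 ha)

theorem finrank_inf_ker {V : Type v} [AddCommGroup V] [Module k V] [FiniteDimensional k V] {V' : Type*}
    [AddCommGroup V'] [Module k V'] (f : V →ₗ[k] V') (A : Submodule k V) :
    finrank k (A.map f) + finrank k ↥(A ⊓ LinearMap.ker f) = finrank k A := by
  have h1 := LinearMap.finrank_range_add_finrank_ker (f ∘ₗ A.subtype)
  rw [LinearMap.range_comp, Submodule.range_subtype, LinearMap.ker_comp] at h1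
  rw [← h1, ← Submodule.finrank_map_subtype_eq A ((LinearMap.ker f).comap A.subtype), Submodule.map_comap_subtype]

/-- the common kernel of a list of linear maps -/
def kers {V : Type v} [AddCommGroup V] [Module k V] {V' : Type*} [AddCommGroup V'] [Module k V'] (A : Submodule k V)
    (l : List (V →ₗ[k] V')) : Submodule k V where
  carrier := {v | v ∈ A ∧ ∀ f ∈ l, f v = 0}
  zero_mem' := ⟨zero_mem _, fun _ _ => map_zero _⟩
  add_mem' := fun h h' => ⟨add_mem h.1 h'.1, fun f hf => by rw [map_add, h.2 f hf, h'.2 f hf, add_zero]⟩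
  smul_mem' := fun c _ h => ⟨A.smul_mem c h.1, fun f hf => by rw [map_smul, h.2 f hf, smul_zero]⟩

section
variable {V : Type v} [AddCommGroup V] [Module k V] {V' : Type*} [AddCommGroup V'] [Module k V'] (A : Submodule k V)

theorem kers_nil : kers A ([] : List (V →ₗ[k] V')) = A := Submodule.ext fun _ => ⟨fun h => h.1, fun h => ⟨h, by simp⟩⟩

theorem kers_cons (f : V →ₗ[k] V') (l : List (V →ₗ[k] V')) : kers A (f :: l) = kers A l ⊓ LinearMap.ker f :=
  Submodule.ext fun _ => ⟨fun h => ⟨⟨h.1, fun g hg => h.2 g (List.mem_cons_of_mem _ hg)⟩, h.2 f List.mem_cons_self⟩,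
    fun h => ⟨h.1.1, fun g hg => (List.mem_cons.1 hg).elim (fun e => e ▸ h.2) (h.1.2 g)⟩⟩

/-- maps with values in a line -/
theorem ker_line [FiniteDimensional k V] [FiniteDimensional k V'] {Z : Submodule k V'} (hZ : finrank k Z = 1)
    (l : List (V →ₗ[k] V')) (h : ∀ f ∈ l, ∀ v ∈ A, f v ∈ Z) : finrank k A ≤ finrank k (kers A l) + l.length := by
  induction l with
  | nil => rw [kers_nil]; exact le_rfl
  | cons f l ih =>
    have h1 := ih fun g hg => h g (List.mem_cons_of_mem _ hg)
    have h2 := finrank_inf_ker f (kers A l)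
    have h3 : (kers A l).map f ≤ Z := by
      rintro _ ⟨v, hv, rfl⟩
      exact h f List.mem_cons_self v hv.1
    have h4 := Submodule.finrank_mono h3
    rw [kers_cons, List.length_cons]
    omega

/-- commuting operators of square zero -/
theorem ker_big [FiniteDimensional k V] (l : List (End k V)) (h1 : ∀ f ∈ l, ∀ v, f (f v) = 0)
    (h2 : ∀ f ∈ l, ∀ g ∈ l, ∀ v, f (g v) = g (f v)) : finrank k V ≤ 2 ^ l.length * finrank k (kers ⊤ l) := by
  induction l with
  | nil => rw [kers_nil, finrank_top]; simp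
  | cons f l ih =>
    have h3 := ih (fun g hg => h1 g (List.mem_cons_of_mem _ hg))
      fun g hg g' hg' => h2 g (List.mem_cons_of_mem _ hg) g' (List.mem_cons_of_mem _ hg')
    have h4 := finrank_inf_ker f (kers ⊤ l)
    have h5 : (kers ⊤ l).map f ≤ kers ⊤ l ⊓ LinearMap.ker f := by
      rintro _ ⟨v, hv, rfl⟩
      refine ⟨⟨trivial, fun g hg => ?_⟩, h1 f List.mem_cons_self v⟩
      rw [h2 g (List.mem_cons_of_mem _ hg) f List.mem_cons_self, hv.2 g hg, map_zero]
    have h6 := Submodule.finrank_mono h5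
    rw [kers_cons, List.length_cons, pow_succ, mul_assoc]
    exact h3.trans (Nat.mul_le_mul_left _ (by omega))

end

/-- positive sums -/
theorem sum_pos {ι : Type*} [Fintype ι] (f : ι → ℤ) {t0 : ι} (h0 : f t0 = 2) (h1 : ∀ t, -1 ≤ f t)
    (h2 : ∀ t t', f t < 0 → f t' < 0 → t = t') : 0 < ∑ t, f t := by
  classical
  by_cases h : ∃ t, f t < 0
  · obtain ⟨t, ht⟩ := h
    have hne : t ≠ t0 := fun e => by rw [e] at ht; omega
    rw [← Finset.add_sum_erase _ _ (Finset.mem_univ t0),
      ← Finset.add_sum_erase _ _ (Finset.mem_erase.2 ⟨hne, Finset.mem_univ t⟩)]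
    have h3 : 0 ≤ ∑ s ∈ (Finset.univ.erase t0).erase t, f s := Finset.sum_nonneg fun s hs => by
      by_contra h4
      exact (Finset.mem_erase.1 hs).1 (h2 s t (not_le.1 h4) ht)
    have := h1 t
    omega
  · push Not at h
    have h3 := Finset.single_le_sum (f := f) (fun t _ => h t) (Finset.mem_univ t0)
    omega

/-- an operator of odd order which acts non-trivially has an eigenvalue `≠ 1` -/
theorem exists_eig [IsAlgClosed k] {V : Type v} [AddCommGroup V] [Module k V] [FiniteDimensional k V] (f : End k V)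
    {n : ℕ} (hn : (n : k) ≠ 0) (hf : f ^ n = 1) (W : Submodule k V) (hW : ∀ v ∈ W, f v ∈ W) {w : V} (hw : w ∈ W)
    (hne : f w ≠ w) : ∃ v ∈ W, v ≠ 0 ∧ ∃ c : k, c ≠ 1 ∧ c ^ n = 1 ∧ f v = c • v := by
  let M : Submodule k V := W.map (f - 1)
  have hM : ∀ v ∈ M, f v ∈ M := by
    rintro _ ⟨u, hu, rfl⟩
    exact ⟨f u, hW u hu, by simp⟩
  have hnt : Nontrivial M := ⟨⟨⟨_, w, hw, rfl⟩, 0, fun h => hne (sub_eq_zero.1 (congrArg Subtype.val h))⟩⟩
  obtain ⟨c, hc⟩ := End.exists_eigenvalue (f.restrict hM)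
  obtain ⟨⟨v, u, hu, rfl⟩, he⟩ := hc.exists_hasEigenvector
  have h0 : (f - 1) u ≠ 0 := fun h => he.2 (Subtype.ext h)
  have h1 : f ((f - 1) u) = c • (f - 1) u := congrArg Subtype.val he.apply_eq_smul
  refine ⟨_, sub_mem (hW u hu) hu, h0, c, ?_, ?_, h1⟩
  · rintro rfl
    rw [one_smul] at h1
    have h2 : ∀ m : ℕ, (f ^ m) u = u + (m : k) • (f - 1) u := by
      intro m
      induction m with
      | zero => simp
      | succ m ih =>
        rw [pow_succ', End.mul_apply, ih, map_add, map_smul, h1, Nat.cast_succ, add_smul, one_smul]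
        simp only [LinearMap.sub_apply, End.one_apply]
        abel
    have h3 := h2 n
    rw [hf, End.one_apply, left_eq_add, smul_eq_zero] at h3
    exact h3.elim hn h0
  · have h2 : ∀ m : ℕ, (f ^ m) ((f - 1) u) = c ^ m • (f - 1) u := by
      intro m
      induction m with
      | zero => simp
      | succ m ih => rw [pow_succ', End.mul_apply, ih, map_smul, h1, smul_smul, pow_succ]
    have h3 := h2 n
    rw [hf, End.one_apply] at h3
    exact smul_left_injective k h0 (by
      show c ^ n • (f - 1) u = (1 : k) • (f - 1) u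
      rw [one_smul, ← h3])

end Cfsg.Agent.E7P.Hb
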