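import Cfsg.Agent.E7P.P2.HbTab
import Cfsg.Agent.E7P.P2.HbPen
import Cfsg.Agent.E7P.P2.CaI

/-!
# S5932, `p = 2`, Case 2b: no stable subspace consists of elements of square zero (helper92)

* `Hb.PEEL` : the classes of elements of square zero;
* `Sit.hb_om` : the form `om` vanishes on irreducible submodules; `Sit.hb_nil`.
-/

set_option autoImplicit false
set_option maxRecDepth 100000

namespace Cfsg.Agent.E7P

open Cfsg Cfsg.Lie Matrix Module
open Cfsg.Agent.H943.E7V.Block (D1 rho)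
open Cfsg.Agent.H943.RepAdd (subRep quotRep quotRep_mk)
open Cfsg.Agent.R2.H28.SL2 (Irrd irr_of_min)
open Cfsg.Agent.R2.H6P2 (NS AltZ altZ_irr)
open Cfsg.Agent.R2.T1 Cfsg.Agent.E7P.Kf Cfsg.Agent.E7P.Br Cfsg.Agent.E7P.P2 Cfsg.Agent.E7P.Hb
open Cfsg.Agent.R2.PX (del)
open Cfsg.Agent.R2.T1.N6D (Zc mem_Zc zv del_zv Zc_eq)

universe u v w

namespace Hb

/-- **PEEL** -/
def PEEL (K : Type u) [Field K] : Prop := ∀ x : chevE7.Idx → K, x ≠ 0 → del K x * del K x = 0 →
  ∃ g, ∃ B ∈ BL, adM K g *ᵥ x = ind K B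

theorem ns_dual {k : Type u} [Field k] {G : Type*} [Group G] {V : Type w} [AddCommGroup V] [Module k V]
    [FiniteDimensional k V] {ρ : Representation k G V} (h : Irrd ρ) : NS ρ.dual (finrank k V) := by
  intro U hU hlt
  have h1 := Subspace.finrank_add_finrank_dualCoannihilator_eq U
  rcases h.2 U.dualCoannihilator (fun g x hx => by
    rw [Submodule.mem_dualCoannihilator] at hx ⊢
    intro f hf
    have h2 := hx _ (hU g⁻¹ f hf)
    rw [Representation.dual_apply, inv_inv] at h2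
    exact h2) with h2 | h2
  · rw [h2, finrank_bot] at h1
    omega
  · rw [h2, finrank_top] at h1
    exact Submodule.finrank_eq_zero.1 (by omega)

variable {K : Type u} [Field K]

theorem cm_of_sq (h2 : (2 : K) = 0) {W : Submodule K (chevE7.Idx → K)} (h : ∀ x ∈ W, del K x * del K x = 0)
    {x y : chevE7.Idx → K} (hx : x ∈ W) (hy : y ∈ W) : Cm x y := by
  have h1 := sq_add h2 x y
  rw [(sq_eq_zero h2).2 (h _ (add_mem hx hy)), (sq_eq_zero h2).2 (h x hx), (sq_eq_zero h2).2 (h y hy), zero_add,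
    zero_add] at h1
  exact br_eq_zero.1 h1.symm

/-- elements which act freely -/
theorem free_of_br (h2 : (2 : K) = 0) {x f : chevE7.Idx → K} {c : K} (hc : c ≠ 0) (h : br K x f = c • zv K)
    {v : D1 → K} (hv : del K x *ᵥ v = 0) : ∃ u, v = del K x *ᵥ u := by
  have h1 := congrArg (fun A => A *ᵥ v) (del_br x f)
  simp only [h, map_smul, del_zv h2, smul_mulVec, one_mulVec, sub_mulVec, ← mulVec_mulVec, hv, mulVec_zero, sub_zero] at h1
  exact ⟨c⁻¹ • (del K f *ᵥ v), by rw [mulVec_smul, ← h1, smul_smul, inv_mul_cancel₀ hc, one_smul]⟩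

/-- a subspace of elements of square zero all of which act freely has dimension at most 3 -/
theorem le_three [IsAlgClosed K] (h2 : (2 : K) = 0) {W : Submodule K (chevE7.Idx → K)}
    (h : ∀ x ∈ W, del K x * del K x = 0) (hf : ∀ x ∈ W, x ≠ 0 → ∀ v, del K x *ᵥ v = 0 → ∃ u, v = del K x *ᵥ u) :
    finrank K W ≤ 3 := by
  have h1 := pencil' (V := D1 → K) (toLin'.toLinearMap ∘ₗ del K ∘ₗ W.subtype)
    (fun a => LinearMap.ext fun v => by
      show del K a *ᵥ (del K a *ᵥ v) = 0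
      rw [mulVec_mulVec, h a a.2, zero_mulVec])
    (fun a b => LinearMap.ext fun v => by
      show del K a *ᵥ (del K b *ᵥ v) = del K b *ᵥ (del K a *ᵥ v)
      rw [mulVec_mulVec, mulVec_mulVec, cm_of_sq h2 h a.2 b.2])
    fun a ha => hf a a.2 fun e => ha (Subtype.ext e)
  rw [finrank_fintype_fun_eq_card, H943.E7V.Block.card_D1] at h1
  by_contra h3
  have h4 := (pow_dvd_pow 2 (show 4 ≤ finrank K W by omega)).trans h1
  omega

end Hb

namespace Sit

variable {p a b : ℕ} {F : Type u} {K : Type v} {k : Type u} [Field F] [Fintype F] [Field K] [Fintype K] [Field k]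
  (S : Sit p a b F K k)

theorem hb_RL (g : SpecialLinearGroup (Fin 2) K) (y : chevE7.Idx → k) : S.RL g y = adM k (S.ψ g) *ᵥ y := L_mulVec _ _

include S in
theorem hb_alt (hp : p = 2) {V : Type*} [AddCommGroup V] [Module k V] [FiniteDimensional k V]
    {ρ : Representation k (SpecialLinearGroup (Fin 2) K) V} (h : Irrd ρ) :
    AltZ.{u, w} ρ (finrank k V) ∧ ∃ n, finrank k V = 2 ^ n := by
  classical
  subst hp
  have := S.chark
  have := S.charK
  have := S.closed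
  exact altZ_irr S.ι h

section
variable {W : Submodule k (chevE7.Idx → k)} (hW : ∀ g, ∀ y ∈ W, S.RL g y ∈ W)

/-- the form vanishes on irreducible submodules -/
theorem hb_om (hp : p = 2) {R : Type u} [CommRing R] [IsDomain R] (L : Lf k R) (hI : Irrd (subRep S.RL W hW))
    (hc : ∀ x ∈ W, ∀ y ∈ W, Cm x y) {x y z : chevE7.Idx → k} (hx : x ∈ W) (hy : y ∈ W) (hz : z ∈ W) :
    L.om x y z = 0 := by
  have c3 : ∀ x y z : W, Cm3 x.1 y.1 z.1 := fun x y z => ⟨hc _ x.2 _ y.2, hc _ y.2 _ z.2, hc _ z.2 _ x.2⟩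
  have cyc : ∀ x y z : W, L.om x y z = L.om y z x := fun x y z => L.om_cyc (c3 x y z)
  have add : ∀ x x' y z : W, L.om (x + x' : W) y z = L.om x y z + L.om x' y z := fun x x' y z =>
    L.om_add (c3 x y z) (c3 x' y z) (c3 (x + x') y z)
  have smul : ∀ (c : k) (x y z : W), L.om (c • x : W) y z = c * L.om x y z := fun c x y z =>
    L.om_smul c (c3 x y z) (c3 (c • x) y z)
  let γ : W → W → Dual k W := fun x y =>
    { toFun := fun z => L.om x y z
      map_add' := fun z z' => by rw [← cyc, add, cyc z, cyc z']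
      map_smul' := fun c z => by rw [← cyc, smul, cyc z]; rfl }
  let β : W →ₗ[k] W →ₗ[k] Dual k W := LinearMap.mk₂ k γ (fun x x' y => LinearMap.ext fun z => add x x' y z)
    (fun c x y => LinearMap.ext fun z => smul c x y z)
    (fun x y y' => LinearMap.ext fun z => by
      show L.om x (y + y' : W) z = L.om x y z + L.om x y' z
      rw [cyc, add, cyc x, cyc x])
    (fun c x y => LinearMap.ext fun z => by
      show L.om x (c • y : W) z = c * L.om x y z
      rw [cyc, smul, cyc x])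
  have h1 := (S.hb_alt hp hI).1 (Dual k W) _ (ns_dual hI) β (fun r => LinearMap.ext fun z => L.om_self (c3 r r z))
    (fun g r r' => LinearMap.ext fun z => by
      show L.om (S.RL g r) (S.RL g r') z = L.om r r' (S.RL g⁻¹ z)
      have h2 := L.om_adM (S.ψ g) (c3 r r' ⟨_, hW g⁻¹ z z.2⟩)
      simp only [hb_RL, map_inv, mulVec_inv'] at h2 ⊢
      exact h2) ⟨x, hx⟩ ⟨y, hy⟩
  exact LinearMap.congr_fun h1 ⟨z, hz⟩

include hW in
/-- destabilisation -/
theorem hb_unst (hp : p = 2) (hZ : S.FixZ) (hc : ∀ x ∈ W, ∀ y ∈ W, Cm x y) {x : chevE7.Idx → k} (hx : x ∈ W)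
    (h0 : x ≠ 0) {g : Gh k} {B : List ℕ} (hB : B ∈ BL) (hg : adM k g *ᵥ x = ind k B)
    (h : finrank k W = 2 ∨ ∀ y ∈ W, ∀ z ∈ W, ∀ a a', lvI B a < 0 → lvI B a' < 0 → (adM k g *ᵥ y) a = 1 →
      (adM k g *ᵥ y) a' = 0 → (adM k g *ᵥ z) a = 0 → (adM k g *ᵥ z) a' = 1 → False) : False := by
  have := S.closed
  have hX := unst_sub (c := ac) (R := adM k) W g⁻¹ (tau B) (by
    intro i h1 h2
    rw [inv_inv] at h1 h2
    have h3 : ∑ t, bf (tau B) (cv (ac (i t))) = ((∑ t, lvI B (i t) : ℤ) : ℝ) := by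
      rw [Int.cast_sum]
      exact Finset.sum_congr rfl fun t _ => bf_tau (BL_gd B hB).2 _
    rw [h3, Int.cast_pos]
    obtain ⟨t0, ht0⟩ : ∃ t, (adM k g *ᵥ x) (i t) ≠ 0 := not_forall.1 fun h4 => h0 (h1 x hx h4)
    rw [hg] at ht0
    have h4 := lev_two hB ht0
    refine sum_pos (fun t => lvI B (i t)) h4 (fun t => ?_) fun t t' ht ht' => ?_
    · obtain ⟨w, hw, h5⟩ := h2 t
      refine low2 (S.two hp) hB (y := adM k g *ᵥ w) (hg ▸ eqv2.cm g (hc x hx w hw)) ?_
      rw [h5, if_pos rfl]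
      exact one_ne_zero
    · by_contra hne
      rcases h with h | h
      · have h5 : t.val ≠ t0.val := fun e => by rw [Fin.ext e] at ht; omega
        have h6 : t'.val ≠ t0.val := fun e => by rw [Fin.ext e] at ht'; omega
        have h7 := t.2
        have h8 := t'.2
        have h9 := t0.2
        exact hne (Fin.ext (by omega))
      · obtain ⟨y, hy, h5⟩ := h2 t
        obtain ⟨z, hz, h6⟩ := h2 t'
        exact h y hy z hz _ _ ht ht' (by rw [h5, if_pos rfl]) (by rw [h5, if_neg (Ne.symm hne)])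
          (by rw [h6, if_neg hne]) (by rw [h6, if_pos rfl]))
  obtain ⟨g', β, h1, -, -, h2, -⟩ := (wrep_L.pow _).kempf hX
  refine S.ca_irr hp hZ h1 fun y => h2 _ (SX_stab fun w hw => ?_)
  rw [← map_inv, ← hb_RL]
  exact hW _ w hw

include hW in
/-- **no stable subspace consists of elements of square zero** -/
theorem hb_nil (hp : p = 2) (hZ : S.FixZ) (hP : PEEL k) (hW0 : W ≠ ⊥)
    (hmin : ∀ W' ≤ W, (∀ g, ∀ y ∈ W', S.RL g y ∈ W') → W' = ⊥ ∨ W' = W) (hsq : ∀ x ∈ W, del k x * del k x = 0) :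
    False := by
  classical
  have := S.closed
  have h2 := S.two hp
  have hI : Irrd (subRep S.RL W hW) := irr_of_min _ hW hW0 hmin
  have hc : ∀ x ∈ W, ∀ y ∈ W, Cm x y := fun x hx y hy => cm_of_sq h2 hsq hx hy
  obtain ⟨n, hn⟩ := (S.hb_alt.{u, v, u} hp hI).2
  rcases n with _ | _ | n
  · obtain ⟨y, hy, h0, h1⟩ := S.ca_line S.RL hW hn
    exact h0 (eq_zero_of_Zc (hZ y fun x => by rw [← hb_RL, h1]) ⟨2, by rw [pow_two, hsq y hy]⟩)
  · obtain ⟨x, hx, h0⟩ := Submodule.exists_mem_ne_zero_of_ne_bot hW0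
    obtain ⟨g, B, hB, hg⟩ := hP x h0 (hsq x hx)
    exact S.hb_unst hW hp hZ hc hx h0 hB hg (Or.inl hn)
  have h3 : ¬ finrank k W ≤ 3 := by
    rw [hn, pow_succ, pow_succ]
    have := Nat.one_le_two_pow (n := n)
    omega
  refine h3 (le_three h2 hsq fun x hx h0 v hv => ?_)
  obtain ⟨g, B, hB, hg⟩ := hP x h0 (hsq x hx)
  have hcm : ∀ y ∈ W, Cm (ind k B) (adM k g *ᵥ y) := fun y hy => hg ▸ eqv2.cm g (hc x hx y hy)
  have h4 : ∀ B ∈ BL, B ∈ [[125], [125, 92]] ∨ B = [125, 92, 87] ∨ B ∈ [[125, 92, 63], [125, 92, 87, 63]] := by decide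
  rcases h4 B hB with h | rfl | h
  · refine (S.hb_unst hW hp hZ hc hx h0 hB hg (Or.inr fun y hy z _ a a' ha _ h5 _ _ _ => ?_)).elim
    have := low1 h2 h (hcm y hy) (a := a) (by rw [h5]; exact one_ne_zero)
    omega
  · refine (S.hb_unst hW hp hZ hc hx h0 hB hg (Or.inr fun y hy z hz a a' ha ha' e1 e2 e3 e4 => ?_)).elim
    have := S.chark
    subst hp
    obtain ⟨R, _, _, ⟨L⟩⟩ := exists_lf k
    rw [tri h2 (hcm y hy) ha] at e1
    rw [tri h2 (hcm y hy) ha'] at e2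
    rw [tri h2 (hcm z hz) ha] at e3
    rw [tri h2 (hcm z hz) ha'] at e4
    obtain ⟨D, hD⟩ : ∃ D, D = yy (adM k g *ᵥ y) 93 * yy (adM k g *ᵥ z) 94 - yy (adM k g *ᵥ y) 94 * yy (adM k g *ᵥ z) 93 :=
      ⟨_, rfl⟩
    have hD0 : D ≠ 0 := fun e => one_ne_zero (α := k) (by
      linear_combination (ind k [93, 16, 11] a * ind k [94, 22, 17] a' - ind k [94, 22, 17] a * ind k [93, 16, 11] a') *
        (e - hD) - (yy (adM k g *ᵥ z) 93 * ind k [93, 16, 11] a' + yy (adM k g *ᵥ z) 94 * ind k [94, 22, 17] a') * e1 - e4 +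
        (yy (adM k g *ᵥ y) 93 * ind k [93, 16, 11] a' + yy (adM k g *ᵥ y) 94 * ind k [94, 22, 17] a') * e3)
    have comb : ∀ s t : k, ∀ c, lvI [125, 92, 87] c < 0 → (adM k g *ᵥ (s • y + t • z)) c =
        (s * yy (adM k g *ᵥ y) 93 + t * yy (adM k g *ᵥ z) 93) * ind k [93, 16, 11] c +
        (s * yy (adM k g *ᵥ y) 94 + t * yy (adM k g *ᵥ z) 94) * ind k [94, 22, 17] c := fun s t c hc => by
      rw [mulVec_add, mulVec_smul, mulVec_smul, Pi.add_apply, Pi.smul_apply, Pi.smul_apply, tri h2 (hcm y hy) hc,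
        tri h2 (hcm z hz) hc, smul_eq_mul, smul_eq_mul]
      ring
    have mem : ∀ s t : k, s • y + t • z ∈ W := fun s t => add_mem (W.smul_mem s hy) (W.smul_mem t hz)
    have h5 := mem (D⁻¹ * yy (adM k g *ᵥ z) 94) (-(D⁻¹ * yy (adM k g *ᵥ y) 94))
    have h6 := mem (-(D⁻¹ * yy (adM k g *ᵥ z) 93)) (D⁻¹ * yy (adM k g *ᵥ y) 93)
    have h7 := L.om_adM g ⟨hc _ hx _ h5, hc _ h5 _ h6, hc _ h6 _ hx⟩
    rw [S.hb_om hW rfl L hI hc hx h5 h6, hg] at h7
    have h8 := inv_mul_cancel₀ hD0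
    refine L.om_tri ⟨hcm _ h5, eqv2.cm g (hc _ h5 _ h6), (hcm _ h6).symm⟩ (fun c hc => ?_) (fun c hc => ?_) h7
    · rw [comb _ _ c hc]
      linear_combination ind k [93, 16, 11] c * h8 - D⁻¹ * ind k [93, 16, 11] c * hD
    · rw [comb _ _ c hc]
      linear_combination ind k [94, 22, 17] c * h8 - D⁻¹ * ind k [94, 22, 17] c * hD
  · refine free_of_br h2 (f := adM k g⁻¹ *ᵥ ind k [0, 33, 62]) one_ne_zero ?_ hv
    rw [← mulVec_inv (adM k) g x, ← adM_br', hg, free_ind h2 h, adM_Zc (R2.T1.N6D.zv_mem h2), one_smul]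

end

end Sit

end Cfsg.Agent.E7P
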