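import Cfsg.Agent.E7P.P2.HbZ

/-!
# S5932, `p = 2`, Case 2b: the trilinear form `κ([x, y], z) / 2` on commuting triples (helper92)

* `Hb.Lf k R` : a lift of the field `k` of characteristic `2`; `exists_lf` (Witt vectors);
* `Lf.om` : the form; `om_eq, om_add, om_smul, om_cyc, om_self, om_adM`.
-/

set_option autoImplicit false
set_option maxRecDepth 100000

namespace Cfsg.Agent.E7P.Hb

open Cfsg Cfsg.Lie Matrix Module
open Cfsg.Agent.H943.E7V.Block (D1 rho)
open Cfsg.Agent.R2.T1 Cfsg.Agent.E7P.Kf Cfsg.Agent.E7P.Br Cfsg.Agent.E7P.P2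
open Cfsg.Agent.R2.PX (del)

universe u

/-- a lift to characteristic zero -/
structure Lf (k : Type u) [Field k] (R : Type u) [CommRing R] where
  π : R →+* k
  surj : Function.Surjective π
  ker : ∀ a, π a = 0 ↔ 2 ∣ a
  two : (2 : R) ≠ 0

theorem exists_lf (k : Type u) [Field k] [IsAlgClosed k] [CharP k 2] :
    ∃ (R : Type u) (_ : CommRing R) (_ : IsDomain R), Nonempty (Lf k R) :=
  ⟨WittVector 2 k, inferInstance, inferInstance, ⟨⟨WittVector.constantCoeff, WittVector.constantCoeff_surjective 2,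
    fun a => by
      rw [← RingHom.mem_ker, WittVector.ker_constantCoeff, Ideal.mem_span_singleton]
      rfl,
    WittVector.p_nonzero 2 k⟩⟩⟩

/-- three commuting elements -/
structure Cm3 {K : Type u} [Field K] (x y z : chevE7.Idx → K) : Prop where
  xy : Cm x y
  yz : Cm y z
  zx : Cm z x

theorem Cm3.cyc {K : Type u} [Field K] {x y z : chevE7.Idx → K} (h : Cm3 x y z) : Cm3 y z x := ⟨h.yz, h.zx, h.xy⟩

namespace Lf

variable {k : Type u} [Field k] {R : Type u} [CommRing R] (L : Lf k R)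

include L in
theorem two_k : (2 : k) = 0 := by rw [← map_ofNat L.π 2, L.ker]

/-- a section -/
noncomputable def sec (a : k) : R := (L.surj a).choose

theorem π_sec (a : k) : L.π (L.sec a) = a := (L.surj a).choose_spec

theorem comp_sec {I : Type*} (x : I → k) : L.π ∘ (L.sec ∘ x) = x := funext fun i => L.π_sec (x i)

theorem phi_even {x y : chevE7.Idx → R} (h : Cm (L.π ∘ x) (L.π ∘ y)) (z : chevE7.Idx → R) : 2 ∣ phi R x y z := by
  rw [← L.ker, phi_map, phi_eq, br_eq_zero.2 h, map_zero, LinearMap.zero_apply]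

theorem exists_diff {I : Type*} {x x' : I → R} (h : L.π ∘ x = L.π ∘ x') : ∃ u, x' = x + (2 : R) • u := by
  have h1 : ∀ i, ∃ u, x' i - x i = 2 * u := fun i => (L.ker _).1 (by
    rw [map_sub, sub_eq_zero]
    exact (congrFun h i).symm)
  choose u hu using h1
  exact ⟨u, funext fun i => by rw [Pi.add_apply, Pi.smul_apply, smul_eq_mul, ← hu, add_sub_cancel]⟩

open Classical in
/-- **the form** -/
noncomputable def om (x y z : chevE7.Idx → k) : k :=
  if h : 2 ∣ phi R (L.sec ∘ x) (L.sec ∘ y) (L.sec ∘ z) then L.π h.choose else 0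

variable [IsDomain R]

include L in
theorem twelve : (12 : FractionRing R) ≠ 0 := by
  have h3 : (3 : R) ≠ 0 := fun h => by
    have h1 := congrArg L.π h
    rw [map_ofNat, map_zero, show (3 : k) = 2 + 1 by norm_num, L.two_k, zero_add] at h1
    exact one_ne_zero h1
  rw [← map_ofNat (algebraMap R (FractionRing R)) 12, map_ne_zero_iff _ (IsFractionRing.injective R _),
    show (12 : R) = 2 * 2 * 3 by norm_num]
  exact mul_ne_zero (mul_ne_zero L.two L.two) h3

include L in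
theorem phi_cyc (x y z : chevE7.Idx → R) : phi R x y z = phi R y z x := by
  apply IsFractionRing.injective R (FractionRing R)
  rw [phi_map, phi_map, phi_eq, phi_eq, kf_br L.twelve, kf_comm]

theorem _root_.Cfsg.Agent.E7P.Hb.phi_self (x z : chevE7.Idx → R) : phi R x x z = 0 := by
  apply IsFractionRing.injective R (FractionRing R)
  rw [phi_map, phi_eq, br_self, map_zero, map_zero, LinearMap.zero_apply]

theorem four_dvd {x x' y z : chevE7.Idx → R} (h : L.π ∘ x = L.π ∘ x') (hc : Cm (L.π ∘ y) (L.π ∘ z)) :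
    4 ∣ phi R x' y z - phi R x y z := by
  obtain ⟨u, rfl⟩ := L.exists_diff h
  obtain ⟨d, hd⟩ := L.phi_even hc u
  rw [map_add, map_smul, LinearMap.add_apply, LinearMap.add_apply, add_sub_cancel_left, LinearMap.smul_apply,
    LinearMap.smul_apply, L.phi_cyc, hd, smul_eq_mul]
  exact ⟨d, by ring⟩

theorem om_eq {x y z : chevE7.Idx → R} (h : Cm3 (L.π ∘ x) (L.π ∘ y) (L.π ∘ z)) {d : R} (hd : phi R x y z = 2 * d) :
    L.om (L.π ∘ x) (L.π ∘ y) (L.π ∘ z) = L.π d := by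
  have h0 : 2 ∣ phi R (L.sec ∘ (L.π ∘ x)) (L.sec ∘ (L.π ∘ y)) (L.sec ∘ (L.π ∘ z)) :=
    L.phi_even (by rw [comp_sec, comp_sec]; exact h.xy) _
  rw [om, dif_pos h0]
  have h1 := L.four_dvd (L.comp_sec (L.π ∘ x)).symm h.yz
  have h2 := L.four_dvd (L.comp_sec (L.π ∘ y)).symm (y := z) (z := L.sec ∘ (L.π ∘ x)) (by rw [comp_sec]; exact h.zx)
  have h3 := L.four_dvd (L.comp_sec (L.π ∘ z)).symm (y := L.sec ∘ (L.π ∘ x)) (z := L.sec ∘ (L.π ∘ y))
    (by rw [comp_sec, comp_sec]; exact h.xy)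
  rw [← L.phi_cyc _ y, ← L.phi_cyc] at h2
  rw [L.phi_cyc z, L.phi_cyc] at h3
  obtain ⟨e, he⟩ := dvd_add (dvd_add h1 h2) h3
  rw [hd, h0.choose_spec] at he
  rw [← sub_eq_zero, ← map_sub, L.ker]
  exact ⟨e, mul_left_cancel₀ L.two (by linear_combination he)⟩

theorem exists_om {x y z : chevE7.Idx → R} (h : Cm3 (L.π ∘ x) (L.π ∘ y) (L.π ∘ z)) :
    ∃ d, phi R x y z = 2 * d ∧ L.om (L.π ∘ x) (L.π ∘ y) (L.π ∘ z) = L.π d := by
  obtain ⟨d, hd⟩ := L.phi_even h.xy z
  exact ⟨d, hd, L.om_eq h hd⟩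

omit [IsDomain R] in
theorem exists_lift {I : Type*} (x : I → k) : ∃ x', x = L.π ∘ x' := ⟨_, (L.comp_sec x).symm⟩

theorem om_cyc {x y z : chevE7.Idx → k} (h : Cm3 x y z) : L.om x y z = L.om y z x := by
  obtain ⟨x, rfl⟩ := L.exists_lift x
  obtain ⟨y, rfl⟩ := L.exists_lift y
  obtain ⟨z, rfl⟩ := L.exists_lift z
  obtain ⟨d, hd, h1⟩ := L.exists_om h
  rw [h1, L.om_eq h.cyc ((L.phi_cyc x y z).symm.trans hd)]

theorem om_self {x z : chevE7.Idx → k} (h : Cm3 x x z) : L.om x x z = 0 := by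
  obtain ⟨x, rfl⟩ := L.exists_lift x
  obtain ⟨z, rfl⟩ := L.exists_lift z
  rw [L.om_eq h (d := 0) (by rw [phi_self, mul_zero]), map_zero]

theorem om_add {x x' y z : chevE7.Idx → k} (h : Cm3 x y z) (h' : Cm3 x' y z) (h'' : Cm3 (x + x') y z) :
    L.om (x + x') y z = L.om x y z + L.om x' y z := by
  obtain ⟨x, rfl⟩ := L.exists_lift x
  obtain ⟨x', rfl⟩ := L.exists_lift x'
  obtain ⟨y, rfl⟩ := L.exists_lift y
  obtain ⟨z, rfl⟩ := L.exists_lift z
  obtain ⟨d, hd, h1⟩ := L.exists_om h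
  obtain ⟨d', hd', h1'⟩ := L.exists_om h'
  have e : L.π ∘ x + L.π ∘ x' = L.π ∘ (x + x') := funext fun i => (map_add L.π _ _).symm
  rw [e] at h'' ⊢
  rw [h1, h1', L.om_eq h'' (d := d + d') (by
    rw [map_add, LinearMap.add_apply, LinearMap.add_apply, hd, hd', mul_add]), map_add]

theorem om_smul {x y z : chevE7.Idx → k} (c : k) (h : Cm3 x y z) (h'' : Cm3 (c • x) y z) :
    L.om (c • x) y z = c * L.om x y z := by
  obtain ⟨x, rfl⟩ := L.exists_lift x
  obtain ⟨y, rfl⟩ := L.exists_lift y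
  obtain ⟨z, rfl⟩ := L.exists_lift z
  obtain ⟨c, rfl⟩ := L.surj c
  obtain ⟨d, hd, h1⟩ := L.exists_om h
  have e : L.π c • (L.π ∘ x) = L.π ∘ (c • x) := funext fun i => (map_mul L.π _ _).symm
  rw [e] at h'' ⊢
  rw [h1, L.om_eq h'' (d := c * d) (by
    rw [map_smul, LinearMap.smul_apply, LinearMap.smul_apply, hd, smul_eq_mul, mul_left_comm]), map_mul]

/-! ### invariance -/

/-- `g` lifts to a matrix which preserves the trilinear form -/
def Up (g : Gh k) : Prop := ∃ A : Matrix chevE7.Idx chevE7.Idx R, A.map L.π = adM k g ∧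
  ∀ x y z, phi R (A *ᵥ x) (A *ᵥ y) (A *ᵥ z) = phi R x y z

theorem up_xs {r : ℕ} (hr : r < 126) (t : k) : L.Up (xs k r t) := by
  obtain ⟨t, rfl⟩ := L.surj t
  let A : Matrix chevE7.Idx chevE7.Idx R := 1 + t • Matrix.of (fun a b => (EZ r a b : R)) +
    t ^ 2 • Matrix.of (fun a b => (QZ r a b : R))
  have key : ∀ (K : Type u) [Field K] (f : R →+* K), A.map f = adM K (xs K r (f t)) := by
    intro K _ f
    rw [adM_xs hr]
    ext a b
    simp only [A, map_apply, Matrix.add_apply, Matrix.smul_apply, smul_eq_mul, of_apply, map_add, map_mul, map_pow,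
      map_intCast, EM_eq, QM_eq, one_apply, apply_ite f, map_one, map_zero]
  refine ⟨A, key k L.π, fun x y z => ?_⟩
  apply IsFractionRing.injective R (FractionRing R)
  have h1 : ∀ x : chevE7.Idx → R, algebraMap R (FractionRing R) ∘ (A *ᵥ x) =
      adM _ (xs _ r (algebraMap R (FractionRing R) t)) *ᵥ (algebraMap R (FractionRing R) ∘ x) := fun x => by
    rw [← key]
    exact funext fun i => RingHom.map_mulVec _ _ _ i
  rw [phi_map, phi_map, h1, h1, h1, phi_adM]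

theorem up (g : Gh k) : L.Up g := by
  have hm : ∀ {a b}, L.Up a → L.Up b → L.Up (a * b) := by
    rintro a b ⟨A, h1, h2⟩ ⟨B, h3, h4⟩
    refine ⟨A * B, by rw [Matrix.map_mul, h1, h3, map_mul], fun x y z => ?_⟩
    rw [← mulVec_mulVec, ← mulVec_mulVec, ← mulVec_mulVec, h2, h4]
  have h1 : L.Up 1 := ⟨1, by rw [map_one, Matrix.map_one _ (map_zero _) (map_one _)], fun x y z => by
    rw [one_mulVec, one_mulVec, one_mulVec]⟩
  exact (mem_of_gens (F := k) (S :=
    { carrier := {g | L.Up g ∧ L.Up g⁻¹}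
      one_mem' := ⟨h1, by rw [inv_one]; exact h1⟩
      mul_mem' := fun ha hb => ⟨hm ha.1 hb.1, by rw [_root_.mul_inv_rev]; exact hm hb.2 ha.2⟩
      inv_mem' := fun ha => ⟨ha.2, by rw [inv_inv]; exact ha.1⟩ })
    (fun r hr t => ⟨L.up_xs hr t, by rw [Kf.xs_inv]; exact L.up_xs hr _⟩) g).1

theorem om_adM (g : Gh k) {x y z : chevE7.Idx → k} (h : Cm3 x y z) :
    L.om (adM k g *ᵥ x) (adM k g *ᵥ y) (adM k g *ᵥ z) = L.om x y z := by
  have h' : Cm3 (adM k g *ᵥ x) (adM k g *ᵥ y) (adM k g *ᵥ z) := ⟨eqv2.cm g h.xy, eqv2.cm g h.yz, eqv2.cm g h.zx⟩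
  obtain ⟨x, rfl⟩ := L.exists_lift x
  obtain ⟨y, rfl⟩ := L.exists_lift y
  obtain ⟨z, rfl⟩ := L.exists_lift z
  obtain ⟨A, h1, h2⟩ := L.up g
  obtain ⟨d, hd, h3⟩ := L.exists_om h
  have e : ∀ x : chevE7.Idx → R, adM k g *ᵥ (L.π ∘ x) = L.π ∘ (A *ᵥ x) := fun x => by
    rw [← h1]
    exact funext fun i => (RingHom.map_mulVec _ _ _ i).symm
  rw [e, e, e] at h' ⊢
  rw [h3, L.om_eq h' ((h2 x y z).trans hd)]

end Lf

end Cfsg.Agent.E7P.Hb
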