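import Cfsg.Agent.E7P.P2.Bas

/-!
# S5932, `p = 2`: nilpotent fixed vectors (helper39)

* `Ex2 β d y z` : `y ∈ Ul β` and `rho y = 1 + Z` up to levels `≥ 2 d`; `ex2` : existence; `Ex2.unique, comm, ne_one, mul_self`;
* `NV K` : the elements of square zero are sufficiently unstable (from PEEL: `nv_of_orth`);
* `eps2` : the stabiliser of such an element centralises an involution or stabilises a root line;
* `Sit.nil2` : `A` fixes no nilpotent element.
-/

set_option autoImplicit false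
set_option maxRecDepth 100000

namespace Cfsg.Agent.E7P

open Cfsg Cfsg.Lie Matrix Module
open Cfsg.Agent.H943.E7V.Block (D1 rho)
open Cfsg.Agent.R2.T1 Cfsg.Agent.E7P.Kf
open Cfsg.Agent.R2.PX (del)
open Cfsg.Agent.R2.T1.N6D (Zc)

universe u v

namespace P2

variable {K : Type u} [Field K] {β : E} {d : ℝ} {x z : chevE7.Idx → K} {y y' : Gh K}

theorem pc_self : ∀ r < 126, pc r (rc r) = 2 := by decide +kernel

theorem bf_rv_rv {r : ℕ} (hr : r < 126) (s : ℕ) : bf (rv s) (rv r) = (pc r (rc s) : ℝ) := bf_cv_rv _ hr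

theorem rv_self {r : ℕ} (hr : r < 126) : bf (rv r) (rv r) = 2 := by
  rw [bf_rv_rv hr, pc_self r hr]
  rfl

/-- an element of the unipotent radical which raises the levels by more than all roots is trivial -/
theorem eq_one_of_high (hM : ∀ r < 126, bf β (rv r) < d) (hy : y ∈ Ul K β) (h : rho K y - 1 ∈ MGe K β d) : y = 1 :=
  (GS_le (T := ⊥) (fun r hr _ => absurd hr.2 (not_le.2 (hM r hr.1))) (mem_Ud_of_MGe hy h) :)

/-- `y` is the exponential of `z` up to level `2 d` -/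
def Ex2 (β : E) (d : ℝ) (y : Gh K) (z : chevE7.Idx → K) : Prop := y ∈ Ul K β ∧ rho K y - 1 - del K z ∈ MGe K β (2 * d)

theorem Ex2.sub_one (hd : 0 < d) (h : Ex2 β d y z) (hz : z ∈ Ge K ac β d) : rho K y - 1 ∈ MGe K β d := by
  have h1 := add_mem (MGe_mono (by linarith) h.2) (del_mem_MGe hz)
  rwa [sub_add_cancel] at h1

theorem Ex2.mul (hd : 0 < d) (h : Ex2 β d y x) (h' : Ex2 β d y' z) (hx : x ∈ Ge K ac β d) (hz : z ∈ Ge K ac β d) :
    Ex2 β d (y * y') (x + z) := by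
  refine ⟨mul_mem h.1 h'.1, ?_⟩
  have h1 := MGe_mul (h.sub_one hd hx) (h'.sub_one hd hz)
  rw [← two_mul] at h1
  convert add_mem (add_mem h.2 h'.2) h1 using 1
  rw [rho_mul_sub, map_add]
  abel

/-- **existence** -/
theorem ex2 (hd : 0 < d) (hz : z ∈ Ge K ac β d) : ∃ y, Ex2 β d y z :=
  Lb.Ge_induction hd (P := fun z => ∃ y, Ex2 β d y z) ⟨1, one_mem _, by simp⟩
    (fun _ hx _ hx' ⟨_, h⟩ ⟨_, h'⟩ => ⟨_, h.mul hd h' hx hx'⟩)
    (fun r h t => ⟨xs K r t, xs_mem_Ul r.2 (hd.trans_le h) t, by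
      have h1 := lead_xs (K := K) r.2 t
      exact h1 ▸ zero_mem _⟩) hz

theorem Ex2.conj (h : Ex2 β d y z) {g : Gh K} (hg : g ∈ Pl K β) : Ex2 β d (g * y * g⁻¹) (adM K g *ᵥ z) := by
  refine ⟨Ul_conj hg h.1, ?_⟩
  convert MGe_conj hg h.2 using 1
  simp only [del_adM', map_mul, mul_sub, sub_mul, mul_one, La.rho_mul_inv]

theorem Ex2.unique (hM : ∀ r < 126, bf β (rv r) < 2 * d) (h : Ex2 β d y z) (h' : Ex2 β d y' z) : y = y' := by
  refine mul_inv_eq_one.1 (eq_one_of_high hM (mul_mem h.1 (inv_mem h'.1)) ?_)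
  have h1 := MGe_mul (sub_mem h.2 h'.2) (rho_mem_MGe (inv_mem h'.1.1))
  rwa [sub_sub_sub_cancel_right, sub_sub_sub_cancel_right, sub_mul, ← map_mul, La.rho_mul_inv, add_zero] at h1

theorem Ex2.comm (hM : ∀ r < 126, bf β (rv r) < 2 * d) (h : Ex2 β d y z) {g : Gh K} (hg : g ∈ Pl K β)
    (hz : adM K g *ᵥ z = z) : g * y = y * g := by
  have h1 := h.conj hg
  rw [hz] at h1
  exact mul_inv_eq_iff_eq_mul.1 (h1.unique hM h)

theorem Ex2.ne_one (hd : 0 < d) (hM : ∀ r < 126, bf β (rv r) < 2 * d) (h : Ex2 β d y z) (h0 : z ≠ 0) : y ≠ 1 := by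
  rintro rfl
  have h1 := neg_mem h.2
  rw [map_one, sub_self, zero_sub, neg_neg] at h1
  exact h0 (Lb.eq_zero_of_high (by linarith) hM (mem_Ge_of_del h1))

theorem Ex2.mul_self (h2 : (2 : K) = 0) (hd : 0 < d) (hM : ∀ r < 126, bf β (rv r) < 2 * d) (h : Ex2 β d y z)
    (hz : z ∈ Ge K ac β d) : y * y = 1 := by
  have h1 := h.mul hd h hz hz
  rw [← two_smul K, h2, zero_smul] at h1
  exact h1.unique hM ⟨one_mem _, by simp⟩

/-! ### elements of square zero -/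

/-- the basis vector of a root -/
def er {r : ℕ} (hr : r < 126) : chevE7.Idx → K := Pi.single (Sum.inr ⟨r, hr⟩) 1

theorem del_er {r : ℕ} (hr : r < 126) : del K (er hr) = NM K r := R2.PX.del_inr ⟨r, hr⟩

theorem comm_xs {r : ℕ} (hr : r < 126) {g : Gh K} (h : adM K g *ᵥ er hr = er hr) (t : K) : g * xs K r t = xs K r t * g := by
  rw [fix_iff, del_er] at h
  refine rho_injective ?_
  rw [map_mul, map_mul, rho_xs' hr, mul_add, add_mul, Matrix.mul_smul, Matrix.smul_mul, h, mul_one, one_mul]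

variable (K) in
/-- the elements of square zero are sufficiently unstable -/
def NV : Prop := ∀ x : chevE7.Idx → K, x ≠ 0 → del K x * del K x = 0 →
  ∃ (g : Gh K) (l : E), bf l l ≤ 8 ∧ adM K g *ᵥ x ∈ Ge K ac l 2

/-- at most four orthogonal roots -/
theorem nv_of_orth (B : Finset ℕ) (hB : ∀ r ∈ B, r < 126) (hc : B.card ≤ 4)
    (ho : ∀ r ∈ B, ∀ s ∈ B, r ≠ s → pc r (rc s) = 0)
    (hx : ∀ i, x i ≠ 0 → ∃ r : Fin chevE7.nroots, i = Sum.inr r ∧ r.val ∈ B) : ∃ l : E, bf l l ≤ 8 ∧ x ∈ Ge K ac l 2 := by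
  have h1 : ∀ r ∈ B, bf (∑ s ∈ B, rv s) (rv r) = 2 := fun r hr => by
    rw [map_sum, LinearMap.sum_apply, Finset.sum_eq_single_of_mem r hr fun s hs h => by
      rw [bf_rv_rv (hB r hr), ho r hr s hs h.symm, Int.cast_zero], rv_self (hB r hr)]
  refine ⟨∑ s ∈ B, rv s, ?_, fun i hi => ?_⟩
  · rw [map_sum, Finset.sum_congr rfl h1, Finset.sum_const, nsmul_eq_mul]
    have h2 : (B.card : ℝ) ≤ 4 := by exact_mod_cast hc
    linarith
  · obtain ⟨r, rfl, hr⟩ := hx i hi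
    exact (h1 r hr).ge

theorem half_le {G : Type*} {St : G → Set E} {g g0 : G} {l : E} (ho : Opt bf St g β) (hf : (St g0).Finite)
    (hn : (St g0).Nonempty) (h8 : bf l l ≤ 8) (hl : ∀ s ∈ St g0, 2 ≤ bf l s) : 1 / 2 ≤ bf β β := by
  obtain ⟨γ, hγ⟩ := bf_pd.exists_cl hf hn
  have h1 := le_of_hull hl hγ.1
  have h2 := bf_pd.nonneg (l - (4 : ℝ) • γ)
  simp only [map_sub, map_smul, LinearMap.sub_apply, LinearMap.smul_apply, smul_eq_mul] at h2
  have h3 := bf_symm γ l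
  have h4 := ho.2 g0 γ hγ
  linarith

/-- the levels of the roots -/
theorem high_or (h : 1 / 2 ≤ bf β β) : (∀ r < 126, bf β (rv r) < 2 * bf β β) ∨
    ∃ r, ∃ hr : r < 126, er hr ∈ Ge K ac β 1 ∧ ∀ x ∈ Ge K ac β 1, ∃ c : K, x = c • er hr := by
  by_cases h1 : ∀ r < 126, bf β (rv r) < 2 * bf β β
  · exact Or.inl h1
  push Not at h1
  obtain ⟨r, hr, h1⟩ := h1
  have h2 : (2 : ℝ) • β = rv r := bf_pd.eq_of_le (by
    simp only [map_smul, LinearMap.smul_apply, smul_eq_mul]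
    linarith) (by
    simp only [map_smul, LinearMap.smul_apply, smul_eq_mul, rv_self hr]
    linarith)
  have h3 : ∀ s, bf (rv r) s = 2 * bf β s := fun s => by rw [← h2, map_smul, LinearMap.smul_apply, smul_eq_mul]
  refine Or.inr ⟨r, hr, fun i hi => ?_, fun x hx => ⟨x (Sum.inr ⟨r, hr⟩), funext fun i => ?_⟩⟩
  · obtain rfl : i = Sum.inr ⟨r, hr⟩ := by
      by_contra h4
      exact hi (Pi.single_eq_of_ne h4 _)
    have h4 := h3 (rv r)
    rw [rv_self hr] at h4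
    show 1 ≤ bf β (rv r)
    linarith
  · by_cases h4 : i = Sum.inr ⟨r, hr⟩
    · rw [h4, Pi.smul_apply, er, Pi.single_eq_same, smul_eq_mul, mul_one]
    rw [Pi.smul_apply, er, Pi.single_eq_of_ne h4, smul_zero]
    by_contra h5
    have h6 := hx i h5
    rcases i with i | s
    · rw [ac_inl, cv_zero, map_zero] at h6
      linarith
    · have h7 : 1 ≤ bf β (rv s) := h6
      have h8 : rv r = rv s := bf_pd.eq_of_le (by rw [rv_self hr, h3]; linarith) (by rw [rv_self hr, rv_self s.2])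
      exact h4 (congrArg Sum.inr (Fin.ext (rv_inj hr s.2 h8).symm))

/-- **the stabiliser of an element of square zero** -/
theorem eps2 [Infinite K] (h2 : (2 : K) = 0) (hN : NV K) (h0 : x ≠ 0) (hx : del K x * del K x = 0) :
    (∃ y : Gh K, y ≠ 1 ∧ y * y = 1 ∧ ∀ g, adM K g *ᵥ x = x → g * y = y * g) ∨
    ∃ (g0 : Gh K) (r : ℕ) (hr : r < 126), ∀ g, adM K g *ᵥ x = x →
      ∃ c : K, adM K g *ᵥ (adM K g0 *ᵥ er hr) = c • (adM K g0 *ᵥ er hr) := by
  obtain ⟨g1, l, h8, hl⟩ := hN x h0 hx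
  have hX : ∃ v ∈ ({x} : Set (chevE7.Idx → K)), v ≠ 0 := ⟨x, rfl, h0⟩
  obtain ⟨g0, β, ho, hβ⟩ := wrep_L.exists_opt hX
  have hn : 1 / 2 ≤ bf β β := half_le (g0 := g1⁻¹) ho (St_finite _) (St_nonempty hX _) h8 (by
    rintro _ ⟨i, rfl, _, rfl, hi⟩
    rw [inv_inv] at hi
    exact hl i hi)
  have hP : ∀ g, adM K g *ᵥ x = x → g0⁻¹ * g * g0 ∈ Pl K β := fun g hg => by
    rw [mul_assoc]
    refine wrep_L.opt_mem hX ho hβ fun s hs => ho.1.2 s (St_mul_sub ?_ g0 hs)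
    rintro _ rfl
    show _ = _
    conv_lhs => rw [← hg, mulVec_inv]
  have hz := Br.Opt_Ge ho (Set.mem_singleton x)
  have hd : 0 < bf β β := by linarith
  rcases high_or (K := K) hn with hM | ⟨r, hr, h3, h4⟩
  · obtain ⟨y, hy⟩ := ex2 hd hz
    refine Or.inl ⟨g0 * y * g0⁻¹, fun h => hy.ne_one hd hM (fun h5 => h0 ?_) ?_, ?_, fun g hg => ?_⟩
    · rw [← mulVec_inv' (adM K) g0 x, h5, mulVec_zero]
    · rw [show y = g0⁻¹ * (g0 * y * g0⁻¹) * g0 by group, h, mul_one, inv_mul_cancel]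
    · rw [show g0 * y * g0⁻¹ * (g0 * y * g0⁻¹) = g0 * (y * y) * g0⁻¹ by group, hy.mul_self h2 hd hM hz, mul_one,
        mul_inv_cancel]
    · have h5 := hy.comm hM (hP g hg) (by rw [mulVec_mul, mulVec_mul, mulVec_inv', hg])
      rw [show g * (g0 * y * g0⁻¹) = g0 * (g0⁻¹ * g * g0 * y) * g0⁻¹ by group, h5]
      group
  · refine Or.inr ⟨g0, r, hr, fun g hg => ?_⟩
    obtain ⟨c, hc⟩ := h4 _ (wrep_L.Ge_stab (hP g hg) h3)
    refine ⟨c, ?_⟩
    rw [← mulVec_smul, ← hc, mulVec_mul, mulVec_mul, mulVec_inv']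

end P2

namespace Sit

open P2

variable {p a b : ℕ} {F : Type u} {K : Type v} {k : Type u} [Field F] [Fintype F] [Field K] [Fintype K] [Field k]
  (S : Sit p a b F K k)

/-- `A` fixes no root vector -/
theorem not_fix_er (hp : p = 2) {g : Gh k} {r : ℕ} (hr : r < 126) (h : adM k g *ᵥ er hr ∈ S.C) : False := by
  refine S.not_cent_xs hp (g := g) hr one_ne_zero fun x => ?_
  have h1 := comm_xs hr (g := g⁻¹ * S.ψ x * g) (by rw [mulVec_mul, mulVec_mul, h x, mulVec_inv]) 1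
  rw [show S.ψ x * (g * xs k r 1 * g⁻¹) = g * (g⁻¹ * S.ψ x * g * xs k r 1) * g⁻¹ by group, h1]
  group

/-- `A` fixes no element of square zero -/
theorem sq_zero2 (hp : p = 2) (hN : NV k) {y : chevE7.Idx → k} (hy : y ∈ S.C) (h : del k y * del k y = 0) : y = 0 := by
  have := S.closed
  by_contra h0
  rcases eps2 (S.two hp) hN h0 h with ⟨c, h1, h2, h3⟩ | ⟨g, r, hr, h1⟩
  · exact h1 (S.ck2' hp (fun x => h3 _ (hy x)) h2)
  · exact S.not_fix_er hp hr (S.fix_of_line (adM k) fun x => h1 _ (hy x))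

/-- **`A` fixes no nilpotent element** -/
theorem nil2 (hp : p = 2) (hN : NV k) {y : chevE7.Idx → k} (hy : y ∈ S.C) (h : IsNilpotent (del k y)) : y = 0 := by
  by_contra h0
  obtain ⟨w, hw, h1, h2⟩ := exists_sq_zero (S.two hp) (C := S.C) (fun _ => S.sq_mem_C hp) hy h0 h
  exact h1 (S.sq_zero2 hp hN hw h2)

end Sit

end Cfsg.Agent.E7P
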