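import Cfsg.Agent.E7P.P2.PeelB
import Cfsg.Agent.E7P.P2.Nil

/-!
# S5932, `p = 2`, PEEL (helper5): the five normal forms of the elements of square zero

`peel` : if `x ≠ 0` and `del x * del x = 0` then `x` is conjugate to `xB K (BB j)`.
-/

set_option autoImplicit false
set_option maxRecDepth 100000

namespace Cfsg.Agent.E7P.Pe

open Cfsg Cfsg.Lie Matrix Module
open Cfsg.Agent.H943.E7V.Block (D1 rho)
open Cfsg.Agent.R2.T1 Cfsg.Agent.E7P.Kf Cfsg.Agent.E7P.Br
open Cfsg.Agent.R2.PX (del)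
open Cfsg.Agent.ChevalleyStructure.RootVec (rt)

universe u

variable {K : Type u} [Field K]

variable (K) in
/-- the sum of the root vectors with numbers in `B` -/
def xB (B : List ℕ) : chevE7.Idx → K := Sum.elim (fun _ => 0) fun r : Fin chevE7.nroots => if r.val ∈ B then 1 else 0

theorem xB_inl (B : List ℕ) (i : Fin chevE7.rank) : xB K B (Sum.inl i) = 0 := rfl

theorem xB_inr (B : List ℕ) (r : Fin chevE7.nroots) : xB K B (Sum.inr r) = if r.val ∈ B then 1 else 0 := rfl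

/-- the coefficients are made `0` or `1` by the torus -/
theorem norm_aux [IsAlgClosed K] {z : chevE7.Idx → K} (hz : OnF z) (n : ℕ) (hn : n ≤ 7) :
    ∃ g, OnF (adM K g *ᵥ z) ∧ ∀ j < n, (adM K g *ᵥ z) (Sum.inr (fI j)) ≠ 0 → (adM K g *ᵥ z) (Sum.inr (fI j)) = 1 := by
  induction n with
  | zero => exact ⟨1, by rwa [map_one, one_mulVec], fun j hj => absurd hj (Nat.not_lt_zero j)⟩
  | succ n ih =>
    obtain ⟨g, h1, h2⟩ := ih (by omega)
    by_cases h0 : (adM K g *ᵥ z) (Sum.inr (fI n)) = 0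
    · refine ⟨g, h1, fun j hj h3 => ?_⟩
      by_cases e : j = n
      · exact absurd (e ▸ h0) h3
      · exact h2 j (by omega) h3
    obtain ⟨s, hs⟩ := IsAlgClosed.exists_eq_mul_self ((adM K g *ᵥ z) (Sum.inr (fI n)))⁻¹
    have hs0 : s ≠ 0 := fun e => inv_ne_zero h0 (by rw [hs, e, mul_zero])
    have h3 : ∀ i, (adM K (Phi K (lam (fun t => rt chevE7 (fr n) t) (Units.mk0 s hs0)) * g) *ᵥ z) i =
        s ^ lev n i * (adM K g *ᵥ z) i := fun i => by
      rw [mulVec_mul, wrep_L.tor, mulVec_diagonal]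
      congr 1
      refine (congrArg Units.val (ch_lam (ac i) (fun t => rt chevE7 (fr n) t) (Units.mk0 s hs0))).trans ?_
      rw [Units.val_zpow_eq_zpow_val, Units.val_mk0]
      exact congrArg _ (Finset.sum_congr rfl fun t _ => mul_comm _ _)
    refine ⟨_, fun i hi => h1 i (right_ne_zero_of_mul (h3 i ▸ hi)), fun j hj h4 => ?_⟩
    rw [h3] at h4 ⊢
    by_cases e : j = n
    · rw [e, lev_fI (by omega), zpow_two, ← hs, inv_mul_cancel₀ h0]
    · rw [h2 j (by omega) (right_ne_zero_of_mul h4), lev_inr (by omega),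
        show lt n (fI j) = 0 from chk_fr n (by omega) j (by omega) e, zpow_zero, one_mul]

theorem mem_frL {r : ℕ} : r ∈ frL ↔ ∃ j < 7, r = fr j := by
  refine ⟨fun h => ?_, ?_⟩
  · obtain ⟨j, hj, rfl⟩ := List.getElem_of_mem h
    exact ⟨j, hj, (List.getD_eq_getElem _ _ hj).symm⟩
  · rintro ⟨j, hj, rfl⟩
    rw [fr, List.getD_eq_getElem _ _ hj]
    exact List.getElem_mem _

theorem peel1 [IsAlgClosed K] (h2 : (2 : K) = 0) {x : chevE7.Idx → K} (hx : del K x * del K x = 0) :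
    ∃ g, ∃ B ∈ frL.sublists, adM K g *ᵥ x = xB K B := by
  classical
  obtain ⟨g, h⟩ := peel0 h2 hx
  obtain ⟨g', h1, h3⟩ := norm_aux h 7 le_rfl
  rw [← mulVec_mul] at h1 h3
  refine ⟨g' * g, frL.filter fun r => ∃ hr : r < 126, (adM K (g' * g) *ᵥ x) (Sum.inr ⟨r, hr⟩) ≠ 0,
    List.mem_sublists.2 List.filter_sublist, funext fun i => ?_⟩
  rcases i with i | r
  · exact of_not_not fun e => by
      obtain ⟨j, -, h4⟩ := h1 _ e
      cases h4
  rw [xB_inr]
  by_cases e : (adM K (g' * g) *ᵥ x) (Sum.inr r) = 0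
  · rw [e, if_neg fun h4 => ?_]
    obtain ⟨_, h5⟩ := of_decide_eq_true (List.mem_filter.1 h4).2
    exact h5 e
  · obtain ⟨j, hj, h4⟩ := h1 _ e
    cases h4
    rw [h3 j hj e]
    refine (if_pos (List.mem_filter.2 ⟨mem_frL.2 ⟨j, hj, rfl⟩, ?_⟩)).symm
    exact decide_eq_true ⟨fr_lt j, e⟩

variable (K) in
/-- a root vector -/
def bv (k : ℕ) : chevE7.Idx → K := xB K [k]

variable (K) in
/-- a sum of root vectors -/
def vs (l : List ℕ) : chevE7.Idx → K := (l.map (bv K)).sum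

theorem vs_cons (k : ℕ) (l : List ℕ) : vs K (k :: l) = bv K k + vs K l := rfl

theorem vs_perm {l l' : List ℕ} (h : l.Perm l') : vs K l = vs K l' := (h.map _).sum_eq

theorem bv_eq (r : Fin chevE7.nroots) : bv K r = er K r := by
  funext i
  rcases i with i | s
  · rw [er, Pi.single_eq_of_ne Sum.inl_ne_inr]; rfl
  · rw [bv, xB_inr, er]
    by_cases e : s = r
    · rw [e, Pi.single_eq_same, if_pos (List.mem_singleton.2 rfl)]
    · rw [Pi.single_eq_of_ne fun e' => e (Sum.inr.inj e'), if_neg fun e' => e (Fin.ext (List.mem_singleton.1 e'))]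

theorem vs_eq {l : List ℕ} (h : l.Nodup) : vs K l = xB K l := by
  induction l with
  | nil => funext i; rcases i with i | s <;> rfl
  | cons k l ih =>
    rw [List.nodup_cons] at h
    rw [vs_cons, ih h.2]
    funext i
    rcases i with i | s
    · exact add_zero _
    · rw [Pi.add_apply, bv, xB_inr, xB_inr, xB_inr]
      by_cases e : s.val = k
      · rw [if_pos (List.mem_singleton.2 e), if_neg (e ▸ h.1), if_pos (List.mem_cons.2 (Or.inl e)), add_zero]
      · rw [if_neg fun e' => e (List.mem_singleton.1 e'), zero_add]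
        exact if_congr (by rw [List.mem_cons, or_iff_right e]) rfl rfl

theorem vs_tog (h2 : (2 : K) = 0) (k : ℕ) (l : List ℕ) : vs K (tog k l) = bv K k + vs K l := by
  unfold tog
  split_ifs with h
  · rw [vs_perm (List.perm_cons_erase h), vs_cons, ← add_assoc, ← two_smul K, h2, zero_smul, zero_add]
  · rfl

theorem vs_foldr (h2 : (2 : K) = 0) (l acc : List ℕ) : vs K (l.foldr tog acc) = vs K l + vs K acc := by
  induction l with
  | nil => exact (zero_add _).symm
  | cons k l ih => rw [List.foldr_cons, vs_tog h2, ih, vs_cons, add_assoc]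

theorem xs_bv (h2 : (2 : K) = 0) {r k : ℕ} (hr : r < 126) (hk : k < 126) (h : k ≠ 125 - r) :
    adM K (xs K r 1) *ᵥ bv K k = bv K k + vs K ((F7 r k).map Prod.fst) := by
  have h1 : bv K k = er K ⟨k, hk⟩ := bv_eq ⟨k, hk⟩
  have h3 : QM K r *ᵥ er K ⟨k, hk⟩ = 0 := by
    rw [show QM K r *ᵥ er K ⟨k, hk⟩ = _ from QM_mulVec (r := ⟨r, hr⟩) _, er,
      Pi.single_eq_of_ne fun e => h (congrArg Fin.val (Sum.inr.inj e)).symm, neg_zero, zero_smul]
  rw [adM_xs hr, add_mulVec, add_mulVec, one_mulVec, smul_mulVec, smul_mulVec, h1, h3, smul_zero, add_zero, one_smul]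
  congr 1
  rcases F7_cases hr k with h4 | ⟨u, c, h4, -, hu, h5, -⟩
  · rw [h4]
    funext i
    rw [er, mulVec_single_one, col_apply]
    rcases i with i | u
    · exact (EM_lr r i _).trans (if_neg h)
    · rw [EM_rr, show cf r (⟨k, hk⟩ : Fin chevE7.nroots) u = 0 from cf_nil h4 _, Int.cast_zero]; rfl
  · have h6 : ((c : ℤ) : K) = 1 := by
      rcases Int.eq_one_or_neg_one_of_mul_eq_one h5 with e | e
      · rw [e, Int.cast_one]
      · rw [e, Int.cast_neg, Int.cast_one, P2.neg_eq h2]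
    rw [EM_er ⟨k, hk⟩ ⟨u, hu⟩ h4 hr, h4, h6, one_smul, ← bv_eq]
    exact (add_zero _).symm

theorem xs_vs (h2 : (2 : K) = 0) {r : ℕ} (hr : r < 126) {l : List ℕ} (h : 125 - r ∉ l) (h' : ∀ k ∈ l, k < 126) :
    adM K (xs K r 1) *ᵥ vs K l = vs K (act r l) := by
  induction l with
  | nil => exact mulVec_zero _
  | cons k l ih =>
    rw [List.mem_cons, not_or] at h
    rw [vs_cons, mulVec_add, ih h.2 fun k hk => h' k (List.mem_cons_of_mem _ hk),
      xs_bv h2 hr (h' k List.mem_cons_self) (Ne.symm h.1), add_assoc, ← vs_foldr h2, ← vs_tog h2]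
    rfl

theorem run_vs (h2 : (2 : K) = 0) : ∀ (w l l' : List ℕ), run w l = some l' → ∃ g, adM K g *ᵥ vs K l = vs K l'
  | [], l, l', h => ⟨1, by rw [map_one, one_mulVec, Option.some.inj h]⟩
  | r :: w, l, l', h => by
    unfold run at h
    split_ifs at h with h1
    obtain ⟨g, hg⟩ := run_vs h2 w _ _ h
    exact ⟨g * xs K r 1, by rw [mulVec_mul, xs_vs h2 h1.1 h1.2.1 h1.2.2, hg]⟩

theorem BB_nodup : ∀ j, (BB j).Nodup := by decide

/-- **PEEL** -/
theorem peel [IsAlgClosed K] (h2 : (2 : K) = 0) {x : chevE7.Idx → K} (h0 : x ≠ 0) (hx : del K x * del K x = 0) :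
    ∃ g j, adM K g *ᵥ x = xB K (BB j) := by
  obtain ⟨g, B, hB, h⟩ := peel1 h2 hx
  have h1 := List.all_eq_true.1 chk_cover B hB
  rw [Bool.or_eq_true, List.isEmpty_iff, List.any_eq_true] at h1
  rcases h1 with rfl | ⟨e, he, h1⟩
  · exact absurd (by rw [← mulVec_inv (adM K) g x, h, ← vs_eq List.nodup_nil]; exact mulVec_zero _) h0
  have h3 := List.all_eq_true.1 chk_WD e he
  rw [beq_iff_eq.1 h1] at h3
  rcases hr : run e.2.2 B with _ | l
  · rw [hr] at h3; exact absurd h3 Bool.false_ne_true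
  rw [hr] at h3
  obtain ⟨g', hg⟩ := run_vs h2 _ _ _ hr
  refine ⟨g' * g, e.2.1, ?_⟩
  rw [mulVec_mul, h, ← vs_eq ((List.mem_sublists.1 hB).nodup (by decide)), hg, vs_perm (List.isPerm_iff.1 h3),
    vs_eq (BB_nodup _)]

theorem chk_BB : ∀ j, (BB j).toFinset.card ≤ 4 ∧ (∀ r ∈ BB j, r < 126) ∧
    ∀ r ∈ BB j, ∀ s ∈ BB j, r ≠ s → pc r (rc s) = 0 := by decide +kernel

/-- the elements of square zero are sufficiently unstable -/
theorem nv [IsAlgClosed K] (h2 : (2 : K) = 0) : P2.NV K := fun x h0 hx => by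
  obtain ⟨g, j, h⟩ := peel h2 h0 hx
  refine ⟨g, P2.nv_of_orth (BB j).toFinset (fun r hr => (chk_BB j).2.1 r (List.mem_toFinset.1 hr)) (chk_BB j).1
    (fun r hr s hs => (chk_BB j).2.2 r (List.mem_toFinset.1 hr) s (List.mem_toFinset.1 hs)) fun i hi => ?_⟩
  rw [h] at hi
  rcases i with i | r
  · exact absurd rfl hi
  · exact ⟨r, rfl, List.mem_toFinset.2 (of_not_not fun e => hi (if_neg e))⟩

end Cfsg.Agent.E7P.Pe
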