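import Cfsg.Agent.E7P.P2.HbInd
import Cfsg.Agent.E7P.P2.Peel

/-!
# S5932, `p = 2`: Case 2 is impossible; `BoxTwo` from Case 1 (helper92)
-/

set_option autoImplicit false

namespace Cfsg.Agent.E7P

open Cfsg Cfsg.Lie Matrix
open Cfsg.Agent.R2.PX (del)

universe u v

theorem Hb.peel {K : Type u} [Field K] [IsAlgClosed K] (h2 : (2 : K) = 0) : Hb.PEEL K := fun x h0 hx => by
  obtain ⟨g, j, h⟩ := Pe.peel h2 h0 hx
  refine ⟨g, Pe.BB j, (by decide : ∀ j, Pe.BB j ∈ Hb.BL) j, h.trans (funext fun a => ?_)⟩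
  rcases a with i | r <;> rfl

/-- **Case 2 is impossible** -/
theorem Sit.hb_not_fixZ {p a b : ℕ} {F : Type u} {K : Type v} {k : Type u} [Field F] [Fintype F] [Field K] [Fintype K]
    [Field k] (S : Sit p a b F K k) (hp : p = 2) : ¬ S.FixZ :=
  have := S.closed
  S.hb_case2 hp (Hb.peel (S.two hp))

/-- Case 1 -/
def Hb.Case1 : Prop := ∀ (p a b : ℕ) (F : Type u) (K : Type v) (k : Type u) [Field F] [Fintype F] [Field K] [Fintype K]
  [Field k] (S : Sit p a b F K k), p = 2 → (∀ y ∈ S.C, IsNilpotent (del k y) → y = 0) → S.FixZ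

theorem boxTwo_of (h : Hb.Case1.{u, v}) : BoxTwo.{u, v} := by
  intro p a b F K k _ _ _ _ _ S hp
  have := S.closed
  exact (S.hb_not_fixZ hp (h p a b F K k S hp fun _ hy => S.nil2 hp (Pe.nv (S.two hp)) hy)).elim

end Cfsg.Agent.E7P
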