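import Cfsg.Agent.E7P.P2.Bas
import Cfsg.Agent.E7P.Br.Pi

/-!
# S5932, `p = 2`, Case 2b: the Lie algebra over rings (helper92)

* `Hb.br_er` : `br (er r) y = EM r *ᵥ y`;
* `Hb.brR`, `Hb.kfR`, `Hb.phi` : the bracket, the form and the trilinear form `κ([x, y], z)` over commutative rings.
-/

set_option autoImplicit false
set_option maxRecDepth 100000

namespace Cfsg.Agent.E7P.Hb

open Cfsg Cfsg.Lie Matrix Module
open Cfsg.Agent.ChevalleyStructure.Columns (car cor)
open Cfsg.Agent.H943.E7V.Block (D1 rho)
open Cfsg.Agent.R2.T1 Cfsg.Agent.E7P.Kf Cfsg.Agent.E7P.Br Cfsg.Agent.E7P.P2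
open Cfsg.Agent.R2.PX (del)

universe u

section
variable {K : Type u} [Field K]

theorem del_EM_single (r : Fin chevE7.nroots) (j : chevE7.Idx) : del K (EM K r *ᵥ Pi.single j 1) =
    NM K r * del K (Pi.single j 1) - del K (Pi.single j 1) * NM K r := by
  have hr : r.val < 126 := r.2
  have h0 : del K (EM K r *ᵥ Pi.single j 1) = del K (chevE7.x K r 1 *ᵥ Pi.single j 1) - del K (Pi.single j 1) +
      (Pi.single j 1 : chevE7.Idx → K) (Sum.inr (ng r)) • NM K r := by
    rw [← R2.PX.adM_xs, adM_xs hr, add_mulVec, add_mulVec, one_mulVec, one_pow, one_smul, one_smul, QM_mulVec, map_add,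
      map_add, map_smul, er, R2.PX.del_inr, neg_smul]
    abel
  rw [h0]
  rcases j with i | s
  · rw [R2.PX.del_x_inl hr, R2.PX.del_inl, Pi.single_eq_of_ne (by simp), zero_smul, add_zero, mul_one,
      ← R2.PX.Hi_comm hr i.2]
    abel
  · have hs : s.val < 126 := s.2
    rw [R2.PX.del_inr]
    by_cases h1 : s = r
    · subst h1
      rw [R2.PX.del_x_self hr, Pi.single_eq_of_ne (fun h => by
        have h2 := congrArg Fin.val (Sum.inr.inj h)
        rw [ng_val] at h2
        omega), zero_smul, add_zero, sub_self, sub_self]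
    by_cases h2 : s = ng r
    · subst h2
      rw [Pi.single_eq_same, one_smul]
      refine Eq.trans ?_ (R2.PX.NM_comm_neg hr).symm
      have h3 := R2.PX.del_x_neg (F := K) hr 1
      rw [one_pow, one_smul, one_smul] at h3
      rw [show del K (chevE7.x K r 1 *ᵥ Pi.single (Sum.inr (ng r)) 1) = _ from h3]
      show _ - NM K (125 - r) + _ = _
      abel
    · have h3 : s.val ≠ 125 - r.val := fun h => h2 (Fin.ext h)
      rw [R2.PX.del_x_inr hr hs h3 (fun h => h1 (Fin.ext h)), Pi.single_eq_of_ne (fun h => h2 (Sum.inr.inj h).symm),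
        zero_smul, add_zero, one_smul, R2.PX.NM_comm hr hs h3]
      abel

/-- the bracket with a root vector -/
theorem br_er (r : Fin chevE7.nroots) (y : chevE7.Idx → K) : br K (Pi.single (Sum.inr r) 1) y = EM K r *ᵥ y := by
  have h : br K (Pi.single (Sum.inr r) 1) = toLin' (EM K r) := LinearMap.pi_ext' fun j => LinearMap.ext_ring
    (Mu.del_injective (by
      show del K (br K (Pi.single (Sum.inr r) 1) (Pi.single j 1)) = del K (toLin' (EM K r) (Pi.single j 1))
      rw [toLin'_apply, del_EM_single, del_br, R2.PX.del_inr]))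
  rw [h, toLin'_apply]

end

/-- `ad e_r` over the integers -/
def EZ (r : ℕ) (a b : chevE7.Idx) : ℤ :=
  match a, b with
  | Sum.inl _, Sum.inl _ => 0
  | Sum.inr u, Sum.inl i => if u.val = r then -(car chevE7 i.val r) else 0
  | Sum.inl i, Sum.inr s => if s.val = 125 - r then cor chevE7 r i.val else 0
  | Sum.inr u, Sum.inr s => cf r s.val u.val

/-- `(ad e_r)² / 2` over the integers -/
def QZ (r : ℕ) (a b : chevE7.Idx) : ℤ :=
  match a, b with
  | Sum.inr u, Sum.inr s => if s.val = 125 - r then (if u.val = r then -1 else 0) else 0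
  | _, _ => 0

/-- the form over the integers -/
def KZ (a b : chevE7.Idx) : ℤ :=
  match a, b with
  | Sum.inl i, Sum.inl j => car chevE7 i.val (chevE7.simple j.val)
  | Sum.inr u, Sum.inr s => if s.val = 125 - u.val then 1 else 0
  | _, _ => 0

/-- the structure constants -/
def cZ (a b m : chevE7.Idx) : ℤ :=
  match a, b with
  | Sum.inr r, b => EZ r m b
  | Sum.inl i, Sum.inr s => - EZ s m (Sum.inl i)
  | Sum.inl _, Sum.inl _ => 0

section
variable {K : Type u} [Field K]

theorem EM_eq (r : ℕ) (a b : chevE7.Idx) : EM K r a b = (EZ r a b : K) := by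
  rcases a with i | u <;> rcases b with j | s
  · exact Int.cast_zero.symm
  · rw [EM_lr]
    show _ = (((if s.val = 125 - r then cor chevE7 r i.val else 0 : ℤ)) : K)
    split_ifs <;> simp
  · rw [EM_rl]
    show _ = (((if u.val = r then -(car chevE7 j.val r) else 0 : ℤ)) : K)
    split_ifs <;> simp
  · rfl

theorem QM_eq (r : ℕ) (a b : chevE7.Idx) : QM K r a b = (QZ r a b : K) := by
  rcases a with i | u <;> rcases b with j | s
  · exact Int.cast_zero.symm
  · exact Int.cast_zero.symm
  · exact Int.cast_zero.symm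
  · rw [QM_rr]
    show _ = (((if s.val = 125 - r then (if u.val = r then -1 else 0) else 0 : ℤ)) : K)
    split_ifs <;> simp

theorem KM_eq (a b : chevE7.Idx) : KM K a b = (KZ a b : K) := by
  rcases a with i | u <;> rcases b with j | s
  · rfl
  · exact Int.cast_zero.symm
  · exact Int.cast_zero.symm
  · rw [KM_rr]
    show _ = (((if s.val = 125 - u.val then 1 else 0 : ℤ)) : K)
    split_ifs <;> simp

theorem br_single (a b m : chevE7.Idx) : br K (Pi.single a 1) (Pi.single b 1) m = (cZ a b m : K) := by
  rcases a with i | r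
  · rcases b with j | s
    · rw [br_eq_zero.2]
      · exact Int.cast_zero.symm
      · rw [Cm, R2.PX.del_inl, R2.PX.del_inl]
        exact R2.T2.Alg.Hi_Hi _ _
    · rw [br_anti, br_er, mulVec_single_one, Pi.neg_apply, col_apply, EM_eq]
      exact (Int.cast_neg _).symm
  · rw [br_er, mulVec_single_one, col_apply, EM_eq]
    rfl

end

section
variable (R : Type*) [CommRing R] {I : Type*} [Fintype I]

/-- a bilinear map with integral coefficients -/
def bil (c : I → I → I → ℤ) : (I → R) →ₗ[R] (I → R) →ₗ[R] (I → R) :=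
  LinearMap.mk₂ R (fun x y m => ∑ a, ∑ b, (c a b m : R) * (x a * y b))
    (fun x x' y => funext fun m => by simp only [Pi.add_apply, add_mul, mul_add, Finset.sum_add_distrib])
    (fun t x y => funext fun m => by simp only [Pi.smul_apply, smul_eq_mul, Finset.mul_sum, mul_assoc, mul_left_comm])
    (fun x y y' => funext fun m => by simp only [Pi.add_apply, mul_add, Finset.sum_add_distrib])
    (fun t x y => funext fun m => by simp only [Pi.smul_apply, smul_eq_mul, Finset.mul_sum, mul_left_comm])

/-- a bilinear form with integral coefficients -/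
def frm (c : I → I → ℤ) : (I → R) →ₗ[R] (I → R) →ₗ[R] R :=
  LinearMap.mk₂ R (fun x y => ∑ a, ∑ b, (c a b : R) * (x a * y b))
    (fun x x' y => by simp only [Pi.add_apply, add_mul, mul_add, Finset.sum_add_distrib])
    (fun t x y => by simp only [Pi.smul_apply, smul_eq_mul, Finset.mul_sum, mul_assoc, mul_left_comm])
    (fun x y y' => by simp only [Pi.add_apply, mul_add, Finset.sum_add_distrib])
    (fun t x y => by simp only [Pi.smul_apply, smul_eq_mul, Finset.mul_sum, mul_left_comm])

variable {R} {R' : Type*} [CommRing R']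

theorem bil_apply (c : I → I → I → ℤ) (x y : I → R) (m : I) : bil R c x y m = ∑ a, ∑ b, (c a b m : R) * (x a * y b) := rfl

theorem frm_apply (c : I → I → ℤ) (x y : I → R) : frm R c x y = ∑ a, ∑ b, (c a b : R) * (x a * y b) := rfl

theorem bil_map (f : R →+* R') (c : I → I → I → ℤ) (x y : I → R) : f ∘ bil R c x y = bil R' c (f ∘ x) (f ∘ y) :=
  funext fun m => by simp only [Function.comp_apply, bil_apply, map_sum, map_mul, map_intCast]

theorem frm_map (f : R →+* R') (c : I → I → ℤ) (x y : I → R) : f (frm R c x y) = frm R' c (f ∘ x) (f ∘ y) := by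
  simp only [Function.comp_apply, frm_apply, map_sum, map_mul, map_intCast]

variable [DecidableEq I]

theorem frm_single (c : I → I → ℤ) (a b : I) : frm R c (Pi.single a 1) (Pi.single b 1) = c a b := by
  rw [frm_apply, Finset.sum_eq_single a, Finset.sum_eq_single b]
  · simp
  · intro j _ hj
    rw [Pi.single_eq_of_ne hj, mul_zero, mul_zero]
  · simp
  · intro i _ hi
    exact Finset.sum_eq_zero fun j _ => by rw [Pi.single_eq_of_ne hi, zero_mul, mul_zero]
  · simp

theorem bil_single (c : I → I → I → ℤ) (a b m : I) : bil R c (Pi.single a 1) (Pi.single b 1) m = c a b m :=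
  frm_single (fun a b => c a b m) a b

theorem ext_bil {M : Type*} [AddCommGroup M] [Module R M] {f g : (I → R) →ₗ[R] (I → R) →ₗ[R] M}
    (h : ∀ a b, f (Pi.single a 1) (Pi.single b 1) = g (Pi.single a 1) (Pi.single b 1)) : f = g :=
  LinearMap.pi_ext' fun a => LinearMap.ext_ring (LinearMap.pi_ext' fun b => LinearMap.ext_ring (h a b))

end

section
variable (R : Type*) [CommRing R]

/-- the trilinear form `κ([x, y], z)` -/
def phi : (chevE7.Idx → R) →ₗ[R] (chevE7.Idx → R) →ₗ[R] (chevE7.Idx → R) →ₗ[R] R := (bil R cZ).compr₂ (frm R KZ)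

variable {R} {R' : Type*} [CommRing R']

theorem phi_apply (x y z : chevE7.Idx → R) : phi R x y z = frm R KZ (bil R cZ x y) z := rfl

theorem phi_map (f : R →+* R') (x y z : chevE7.Idx → R) : f (phi R x y z) = phi R' (f ∘ x) (f ∘ y) (f ∘ z) := by
  rw [phi_apply, frm_map, bil_map, phi_apply]

end

section
variable {K : Type u} [Field K]

theorem bil_eq : bil K cZ = br K := ext_bil fun a b => funext fun m => by rw [bil_single, br_single]

theorem frm_eq : frm K KZ = kf K := ext_bil fun a b => by
  rw [frm_single, kf_apply, mulVec_single_one, single_one_dotProduct, col_apply, KM_eq]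

theorem phi_eq (x y z : chevE7.Idx → K) : phi K x y z = kf K (br K x y) z := by rw [phi_apply, bil_eq, frm_eq]

theorem phi_adM (g : Gh K) (x y z : chevE7.Idx → K) :
    phi K (adM K g *ᵥ x) (adM K g *ᵥ y) (adM K g *ᵥ z) = phi K x y z := by
  rw [phi_eq, phi_eq, ← adM_br', kf_adM]

end

/-! ### weights -/

theorem cZ_wt {a b m : chevE7.Idx} (h : cZ a b m ≠ 0) : ac m = ac a + ac b := by
  have key : ∀ (r : Fin chevE7.nroots) (i j : chevE7.Idx), EZ r i j ≠ 0 → ac i = ac j + rc r := fun r i j h =>
    EM_wt (K := ℚ) r.2 (by rw [EM_eq]; exact_mod_cast h)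
  rcases a with i | r
  · rcases b with j | s
    · exact absurd rfl h
    · exact key s m _ (neg_ne_zero.1 h)
  · rw [add_comm]
    exact key r m b h

theorem KZ_wt {a b : chevE7.Idx} (h : KZ a b ≠ 0) : ac a + ac b = 0 := by
  rcases a with i | u <;> rcases b with j | s
  · exact add_zero _
  · exact absurd rfl h
  · exact absurd rfl h
  · have h1 : s.val = 125 - u.val := by
      by_contra h1
      exact h (if_neg h1)
    rw [ac_inr, ac_inr, h1, rc_neg u.2, add_neg_cancel]

/-- the trilinear form is graded -/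
theorem phi_zero {R : Type*} [CommRing R] {x y z : chevE7.Idx → R}
    (h : ∀ a b c, x a ≠ 0 → y b ≠ 0 → z c ≠ 0 → ac a + ac b + ac c ≠ 0) : phi R x y z = 0 := by
  rw [phi_apply, frm_apply]
  refine Finset.sum_eq_zero fun m _ => Finset.sum_eq_zero fun c _ => ?_
  by_cases h1 : KZ m c = 0
  · rw [h1, Int.cast_zero, zero_mul]
  by_cases h2 : z c = 0
  · rw [h2, mul_zero, mul_zero]
  rw [bil_apply, Finset.sum_eq_zero, zero_mul, mul_zero]
  refine fun a _ => Finset.sum_eq_zero fun b _ => ?_
  by_cases h3 : cZ a b m = 0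
  · rw [h3, Int.cast_zero, zero_mul]
  by_cases h4 : x a = 0
  · rw [h4, zero_mul, mul_zero]
  by_cases h5 : y b = 0
  · rw [h5, mul_zero, mul_zero]
  exact absurd (by rw [← cZ_wt h3, KZ_wt h1]) (h a b c h4 h5 h2)

theorem phi_single {R : Type*} [CommRing R] (a b c : Fin chevE7.nroots) :
    phi R (Pi.single (Sum.inr a) 1) (Pi.single (Sum.inr b) 1) (Pi.single (Sum.inr c) 1) = (cf a b (125 - c) : ℤ) := by
  rw [phi_apply, frm_apply, Finset.sum_eq_single (Sum.inr (ng c)), Finset.sum_eq_single (Sum.inr c)]
  · have h1 : KZ (Sum.inr (ng c)) (Sum.inr c) = 1 := if_pos (congrArg Fin.val (ng_ng c)).symm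
    rw [h1, bil_single, Pi.single_eq_same, Int.cast_one, one_mul, mul_one]
    rfl
  · intro j _ hj
    rw [Pi.single_eq_of_ne hj, mul_zero, mul_zero]
  · simp
  · intro m _ hm
    refine Finset.sum_eq_zero fun j _ => ?_
    by_cases hj : j = Sum.inr c
    · subst hj
      have h1 : KZ m (Sum.inr c) = 0 := by
        rcases m with i | u
        · rfl
        · refine if_neg fun h => hm (congrArg Sum.inr (Fin.ext ?_))
          have hu : u.val < 126 := u.2
          rw [ng_val]
          omega
      rw [h1, Int.cast_zero, zero_mul]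
    · rw [Pi.single_eq_of_ne hj, mul_zero, mul_zero]
  · simp

end Cfsg.Agent.E7P.Hb
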