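import Cfsg.Agent.E7P.Kf.Rep

/-!
# S5932, `p = 2`, PEEL (helper5): the tables

`fr k` : the frame of seven orthogonal roots; `lt k r` : the pairing of the root `r` with the coroot of `fr k`.
-/

set_option autoImplicit false
set_option maxRecDepth 100000

namespace Cfsg.Agent.E7P.Pe

open Cfsg Cfsg.Lie
open Cfsg.Agent.R2.T1 Cfsg.Agent.E7P.Kf

/-- the numbers of the roots of the frame -/
def frL : List ℕ := [125, 92, 87, 78, 73, 66, 63]

/-- the frame -/
def fr (k : ℕ) : ℕ := frL.getD k 0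

theorem fr_lt (k : ℕ) : fr k < 126 := by
  rcases k with _ | _ | _ | _ | _ | _ | _ | k <;> simp [fr, frL]

/-- the levels, base 8 -/
def levT : List ℕ := [
  0x236db6db6db6db6db6db6db6da492492492492492492492492492492492492492492491249249249249249249249248,
  0x136da4da4d248b49229129124c6db4da4da49b49369369b48944a44a4894912912892436da4da4d248b49229129124a,
  0x1369369365249949264a44a44a6db8936936926d24d928949b4d929225244a44a40925369369365249949264a44a44a,
  0x124db6492924924924db6492924924db6db70925124a4924924936da6db0492492924924db6492924924924db649292,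
  0x132924924db6d92492924924ca4924db64929b6e124a4924924936d82494db6492924932924924db6d92492924924ca,
  0x124ca4ca49b2526c94932932926c94932932926524cb70949b04b2926524ca4ca49b2524ca4ca49b2526c9493293292,
  0x124932932996526594ca4ca4926594ca4ca4994932932998194ca4ca4994932932996524932932996526594ca4ca492]

/-- the level of the root `r` for the grading by `fr k` -/
def lt (k r : ℕ) : ℤ := (((levT.getD k 0 >>> (3 * r)) % 8 : ℕ) : ℤ) - 2

theorem chk_lt : ∀ k < 7, ∀ r < 126, pc (fr k) (rc r) = lt k r := by decide +kernel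

/-- the roots which are orthogonal to the first `k` roots of the frame -/
def psi (k r : ℕ) : Bool := (List.range k).all fun j => lt j r == 0

/-- the component of `fr k` -/
def comp (k r : ℕ) : Bool := ([0x3fffffffffffffffffffffffffffffff, 0x1ffffffffffffffe00000000, 0x99ce64099ce64000000000,
  0x40000000800000000000, 0x2000010000000000000, 0x40800000000000000, 0xc000000000000000].getD k 0).testBit r

/-- the sum of two roots -/
def sm (r s : ℕ) : ℕ := ((F7 r s).headD (0, 0)).1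

theorem chk_lev : ∀ k < 7, psi k (125 - fr k) = true ∧ lt k (fr k) = 2 ∧ lt k (125 - fr k) = -2 ∧ ∀ r < 126,
    lt k r ≤ 2 ∧ (lt k r = 2 → r = fr k) ∧ (lt k r ≤ -2 → r = 125 - fr k) ∧
    (psi k r = true → lt k r ≠ 0 → comp k r = true) := by decide +kernel

theorem chk_one : ∀ k < 7, ∀ r < 126, psi k r = true → lt k r = 1 → sm (125 - fr k) r < 126 ∧
    psi k (sm (125 - fr k) r) = true ∧ cf (sm (125 - fr k) r) (fr k) r ≠ 0 := by decide +kernel

theorem chk_mone : ∀ k < 7, ∀ r < 126, lt k r = -1 → sm (fr k) r < 126 ∧ cf (fr k) r (sm (fr k) r) ≠ 0 := by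
  decide +kernel

/-- the simple reflection `i` moves `r` up -/
def mvOk (k r i : ℕ) : Bool := psi k (chevE7.simple i) && psi k (125 - chevE7.simple i) &&
  Nat.blt r (chevE7.reflectRoot i r) && Nat.blt (chevE7.reflectRoot i r) 126 && comp k (chevE7.reflectRoot i r)

theorem chk_mv : ∀ k < 7, ∀ r < 126, comp k r = true → r = fr k ∨ ∃ i < 7, mvOk k r i = true := by decide +kernel

theorem chk_move {k r : ℕ} (hk : k < 7) (hr : r < 126) (h : comp k r = true) : r = fr k ∨ ∃ i < 7,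
    psi k (chevE7.simple i) = true ∧ psi k (125 - chevE7.simple i) = true ∧ r < chevE7.reflectRoot i r ∧
    chevE7.reflectRoot i r < 126 ∧ comp k (chevE7.reflectRoot i r) = true := by
  refine (chk_mv k hk r hr h).imp_right fun ⟨i, hi, h1⟩ => ⟨i, hi, ?_⟩
  simpa only [mvOk, Bool.and_eq_true, Nat.blt_eq, and_assoc] using h1

theorem chk_orth : ∀ k < 7, ∀ r < 126, lt k r = 0 → F7 r (fr k) = [] ∧ fr k ≠ 125 - r := by decide +kernel

theorem chk_top : ∀ r < 126, psi 7 r = false := by decide +kernel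

theorem chk_fr : ∀ k < 7, ∀ j < 7, j ≠ k → lt k (fr j) = 0 := by decide +kernel

/-- the five normal forms -/
def BB (j : Fin 5) : List ℕ := [[125], [125, 92], [125, 92, 63], [125, 92, 87], [125, 92, 87, 63]].getD j []

/-- addition of a basis vector over the field with two elements -/
def tog (k : ℕ) (l : List ℕ) : List ℕ := if k ∈ l then l.erase k else k :: l

/-- the action of `xs r 1` on a sum of root vectors -/
def act (r : ℕ) (l : List ℕ) : List ℕ := l.foldr (fun k acc => tog k (((F7 r k).map Prod.fst).foldr tog acc)) []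

/-- the action of a word -/
def run : List ℕ → List ℕ → Option (List ℕ)
  | [], l => some l
  | r :: w, l => if r < 126 ∧ 125 - r ∉ l ∧ ∀ k ∈ l, k < 126 then run w (act r l) else none

/-- the words which move the subsets of the frame to the normal forms -/
def WD : List (List ℕ × Fin 5 × List ℕ) := [
  ([125], 0, []),
  ([92], 0, [103, 22, 103, 94, 31, 94]),
  ([125, 92], 1, []),
  ([87], 0, [108, 17, 108, 94, 31, 94]),
  ([125, 87], 1, [67, 58, 67, 65, 60, 65]),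
  ([92, 87], 1, [101, 24, 101, 98, 27, 98]),
  ([125, 92, 87], 3, []),
  ([78], 0, [117, 8, 117, 96, 29, 96]),
  ([125, 78], 1, [76, 49, 76, 72, 53, 72]),
  ([92, 78], 1, [115, 10, 115, 98, 27, 98]),
  ([125, 92, 78], 3, [74, 51, 74, 70, 55, 70]),
  ([87, 78], 1, [108, 17, 108, 94, 31, 94, 76, 49, 76, 72, 53, 72]),
  ([125, 87, 78], 3, [76, 49, 76, 72, 53, 72]),
  ([92, 87, 78], 2, [101, 24, 101, 98, 27, 98]),
  ([125, 92, 87, 78], 4, [101, 24, 101, 98, 27, 98]),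
  ([73], 0, [108, 17, 108, 103, 22, 103]),
  ([125, 73], 1, [81, 44, 81, 72, 53, 72]),
  ([92, 73], 1, [106, 19, 106, 105, 20, 105]),
  ([125, 92, 73], 3, [103, 22, 103, 94, 31, 94]),
  ([87, 73], 1, [108, 17, 108, 94, 31, 94]),
  ([125, 87, 73], 3, [108, 17, 108, 94, 31, 94]),
  ([92, 87, 73], 3, [108, 17, 108, 103, 22, 103]),
  ([125, 92, 87, 73], 3, [94, 22, 17]),
  ([78, 73], 1, [108, 17, 108, 94, 31, 94, 115, 10, 115, 98, 27, 98]),
  ([125, 78, 73], 2, [76, 49, 76, 72, 53, 72]),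
  ([92, 78, 73], 3, [103, 22, 103, 94, 31, 94, 76, 49, 76, 72, 53, 72]),
  ([125, 92, 78, 73], 4, [103, 22, 103, 94, 31, 94, 101, 24, 101, 98, 27, 98]),
  ([87, 78, 73], 3, [108, 17, 108, 94, 31, 94, 74, 51, 74, 70, 55, 70]),
  ([125, 87, 78, 73], 4, [76, 49, 76, 72, 53, 72]),
  ([92, 87, 78, 73], 4, [103, 22, 103, 94, 31, 94, 76, 49, 76, 72, 53, 72]),
  ([125, 92, 87, 78, 73], 4, [108, 31, 22, 76, 49, 76, 72, 53, 72]),
  ([66], 0, [117, 8, 117, 99, 26, 99]),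
  ([125, 66], 1, [88, 37, 88, 65, 60, 65]),
  ([92, 66], 1, [110, 15, 110, 105, 20, 105]),
  ([125, 92, 66], 3, [79, 46, 79, 74, 51, 74]),
  ([87, 66], 1, [108, 17, 108, 94, 31, 94, 88, 37, 88, 65, 60, 65]),
  ([125, 87, 66], 2, [67, 58, 67, 65, 60, 65]),
  ([92, 87, 66], 3, [110, 15, 110, 105, 20, 105]),
  ([125, 92, 87, 66], 4, [67, 58, 67, 65, 60, 65]),
  ([78, 66], 1, [117, 8, 117, 96, 29, 96]),
  ([125, 78, 66], 3, [117, 8, 117, 96, 29, 96, 74, 51, 74, 70, 55, 70]),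
  ([92, 78, 66], 3, [117, 8, 117, 96, 29, 96, 79, 46, 79, 74, 51, 74]),
  ([125, 92, 78, 66], 3, [99, 29, 8, 79, 46, 79, 74, 51, 74]),
  ([87, 78, 66], 3, [117, 8, 117, 96, 29, 96]),
  ([125, 87, 78, 66], 4, [117, 8, 117, 96, 29, 96, 101, 24, 101, 98, 27, 98]),
  ([92, 87, 78, 66], 4, [117, 8, 117, 96, 29, 96, 67, 58, 67, 65, 60, 65]),
  ([125, 92, 87, 78, 66], 4, [99, 29, 8, 67, 58, 67, 65, 60, 65]),
  ([73, 66], 1, [108, 17, 108, 94, 31, 94, 110, 15, 110, 105, 20, 105]),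
  ([125, 73, 66], 3, [103, 22, 103, 94, 31, 94, 110, 15, 110, 105, 20, 105]),
  ([92, 73, 66], 2, [106, 19, 106, 105, 20, 105]),
  ([125, 92, 73, 66], 4, [103, 22, 103, 94, 31, 94, 67, 58, 67, 65, 60, 65]),
  ([87, 73, 66], 3, [108, 17, 108, 94, 31, 94, 79, 46, 79, 74, 51, 74]),
  ([125, 87, 73, 66], 4, [108, 17, 108, 94, 31, 94, 67, 58, 67, 65, 60, 65]),
  ([92, 87, 73, 66], 4, [106, 19, 106, 105, 20, 105]),
  ([125, 92, 87, 73, 66], 4, [108, 103, 94, 106, 19, 106, 105, 20, 105]),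
  ([78, 73, 66], 3, [103, 22, 103, 94, 31, 94, 117, 8, 117, 96, 29, 96]),
  ([125, 78, 73, 66], 4, [88, 37, 88, 67, 58, 67, 76, 49, 76, 72, 53, 72]),
  ([92, 78, 73, 66], 4, [115, 10, 115, 101, 24, 101, 106, 19, 106, 105, 20, 105]),
  ([125, 92, 78, 73, 66], 4, [103, 22, 103, 94, 31, 94, 99, 29, 8, 67, 58, 67, 65, 60, 65]),
  ([87, 78, 73, 66], 3, [117, 8, 117, 96, 29, 96, 94, 22, 17]),
  ([125, 87, 78, 73, 66], 4, [70, 51, 46, 76, 49, 76, 72, 53, 72]),
  ([92, 87, 78, 73, 66], 4, [79, 55, 51, 106, 19, 106, 105, 20, 105]),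
  ([125, 92, 87, 78, 73, 66], 4, [108, 103, 94, 79, 55, 51, 106, 19, 106, 105, 20, 105]),
  ([63], 0, [115, 10, 115, 101, 24, 101]),
  ([125, 63], 1, [88, 37, 88, 67, 58, 67]),
  ([92, 63], 1, [115, 10, 115, 101, 24, 101]),
  ([125, 92, 63], 2, []),
  ([87, 63], 1, [108, 17, 108, 94, 31, 94, 88, 37, 88, 67, 58, 67]),
  ([125, 87, 63], 3, [81, 44, 81, 76, 49, 76]),
  ([92, 87, 63], 3, [110, 15, 110, 106, 19, 106]),
  ([125, 92, 87, 63], 4, []),
  ([78, 63], 1, [117, 8, 117, 96, 29, 96, 88, 37, 88, 67, 58, 67]),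
  ([125, 78, 63], 3, [115, 10, 115, 98, 27, 98, 76, 49, 76, 72, 53, 72]),
  ([92, 78, 63], 3, [115, 10, 115, 98, 27, 98]),
  ([125, 92, 78, 63], 4, [115, 10, 115, 101, 24, 101]),
  ([87, 78, 63], 3, [108, 17, 108, 103, 22, 103, 115, 10, 115, 98, 27, 98]),
  ([125, 87, 78, 63], 3, [101, 27, 10, 81, 44, 81, 76, 49, 76]),
  ([92, 87, 78, 63], 4, [115, 10, 115, 98, 27, 98]),
  ([125, 92, 87, 78, 63], 4, [101, 27, 10]),
  ([73, 63], 1, [108, 17, 108, 94, 31, 94, 115, 10, 115, 101, 24, 101]),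
  ([125, 73, 63], 3, [103, 22, 103, 94, 31, 94, 110, 15, 110, 106, 19, 106]),
  ([92, 73, 63], 3, [103, 22, 103, 94, 31, 94, 81, 44, 81, 76, 49, 76]),
  ([125, 92, 73, 63], 4, [103, 22, 103, 94, 31, 94]),
  ([87, 73, 63], 2, [108, 17, 108, 94, 31, 94]),
  ([125, 87, 73, 63], 4, [108, 17, 108, 94, 31, 94]),
  ([92, 87, 73, 63], 4, [108, 17, 108, 103, 22, 103]),
  ([125, 92, 87, 73, 63], 4, [94, 22, 17]),
  ([78, 73, 63], 3, [108, 17, 108, 94, 31, 94, 115, 10, 115, 98, 27, 98]),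
  ([125, 78, 73, 63], 4, [103, 22, 103, 94, 31, 94, 115, 10, 115, 98, 27, 98]),
  ([92, 78, 73, 63], 3, [115, 10, 115, 98, 27, 98, 94, 22, 17]),
  ([125, 92, 78, 73, 63], 4, [103, 22, 103, 94, 31, 94, 101, 27, 10]),
  ([87, 78, 73, 63], 4, [108, 17, 108, 94, 31, 94, 115, 10, 115, 101, 24, 101]),
  ([125, 87, 78, 73, 63], 4, [108, 17, 108, 94, 31, 94, 101, 27, 10]),
  ([92, 87, 78, 73, 63], 4, [108, 17, 108, 103, 22, 103, 101, 27, 10]),
  ([125, 92, 87, 78, 73, 63], 4, [94, 22, 17, 101, 27, 10]),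
  ([66, 63], 1, [117, 8, 117, 96, 29, 96, 115, 10, 115, 101, 24, 101]),
  ([125, 66, 63], 3, [88, 37, 88, 65, 60, 65]),
  ([92, 66, 63], 3, [103, 22, 103, 94, 31, 94, 88, 37, 88, 65, 60, 65]),
  ([125, 92, 66, 63], 4, [88, 37, 88, 67, 58, 67]),
  ([87, 66, 63], 3, [108, 17, 108, 94, 31, 94, 88, 37, 88, 65, 60, 65]),
  ([125, 87, 66, 63], 4, [88, 37, 88, 65, 60, 65]),
  ([92, 87, 66, 63], 3, [110, 15, 110, 105, 20, 105, 94, 22, 17]),
  ([125, 92, 87, 66, 63], 4, [67, 60, 37]),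
  ([78, 66, 63], 2, [117, 8, 117, 96, 29, 96]),
  ([125, 78, 66, 63], 4, [117, 8, 117, 96, 29, 96, 115, 10, 115, 101, 24, 101]),
  ([92, 78, 66, 63], 4, [117, 8, 117, 96, 29, 96, 88, 37, 88, 67, 58, 67]),
  ([125, 92, 78, 66, 63], 4, [99, 29, 8, 88, 37, 88, 67, 58, 67]),
  ([87, 78, 66, 63], 4, [117, 8, 117, 96, 29, 96]),
  ([125, 87, 78, 66, 63], 4, [117, 8, 117, 96, 29, 96, 101, 27, 10]),
  ([92, 87, 78, 66, 63], 4, [117, 8, 117, 96, 29, 96, 67, 60, 37]),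
  ([125, 92, 87, 78, 66, 63], 4, [99, 29, 8, 67, 60, 37]),
  ([73, 66, 63], 3, [108, 17, 108, 103, 22, 103, 88, 37, 88, 65, 60, 65]),
  ([125, 73, 66, 63], 3, [110, 20, 19, 88, 37, 88, 65, 60, 65]),
  ([92, 73, 66, 63], 4, [103, 22, 103, 94, 31, 94, 88, 37, 88, 65, 60, 65]),
  ([125, 92, 73, 66, 63], 4, [103, 22, 103, 94, 31, 94, 67, 60, 37]),
  ([87, 73, 66, 63], 4, [108, 17, 108, 94, 31, 94, 88, 37, 88, 67, 58, 67]),
  ([125, 87, 73, 66, 63], 4, [108, 17, 108, 94, 31, 94, 67, 60, 37]),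
  ([92, 87, 73, 66, 63], 4, [108, 17, 108, 103, 22, 103, 67, 60, 37]),
  ([125, 92, 87, 73, 66, 63], 4, [94, 22, 17, 67, 60, 37]),
  ([78, 73, 66, 63], 4, [103, 22, 103, 94, 31, 94, 117, 8, 117, 96, 29, 96]),
  ([125, 78, 73, 66, 63], 4, [103, 22, 103, 94, 31, 94, 117, 8, 117, 96, 29, 96, 67, 60, 37]),
  ([92, 78, 73, 66, 63], 4, [103, 22, 103, 94, 31, 94, 117, 8, 117, 96, 29, 96, 101, 27, 10]),
  ([125, 92, 78, 73, 66, 63], 4, [103, 22, 103, 94, 31, 94, 99, 29, 8, 67, 60, 37]),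
  ([87, 78, 73, 66, 63], 4, [117, 8, 117, 96, 29, 96, 94, 22, 17]),
  ([125, 87, 78, 73, 66, 63], 4, [108, 17, 108, 94, 31, 94, 99, 29, 8, 67, 60, 37]),
  ([92, 87, 78, 73, 66, 63], 4, [108, 17, 108, 103, 22, 103, 99, 29, 8, 67, 60, 37]),
  ([125, 92, 87, 78, 73, 66, 63], 4, [94, 22, 17, 99, 29, 8, 67, 60, 37])]

theorem chk_WD : (WD.all fun e => match run e.2.2 e.1 with
    | some l => l.isPerm (BB e.2.1)
    | none => false) = true := by decide +kernel

theorem chk_cover : (frL.sublists.all fun B => B.isEmpty || WD.any fun e => e.1 == B) = true := by decide +kernel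

end Cfsg.Agent.E7P.Pe
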