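import Cfsg.Agent.E7P.P2.PeelA
import Cfsg.Agent.E7P.P2.Bas
import Cfsg.Agent.E7P.Frm.Weyl

/-!
# S5932, `p = 2`, PEEL (helper5): elements of square zero are conjugate into the span of the frame
-/

set_option autoImplicit false
set_option maxRecDepth 100000

namespace Cfsg.Agent.E7P.Pe

open Cfsg Cfsg.Lie Matrix Module
open Cfsg.Agent.H943.E7V.Block (D1 rho)
open Cfsg.Agent.R2.T1 Cfsg.Agent.E7P.Kf Cfsg.Agent.E7P.Br
open Cfsg.Agent.R2.PX (del)

universe u

variable {K : Type u} [Field K]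

theorem pc_add (r : ℕ) (c d : Fin 7 → ℤ) : pc r (c + d) = pc r c + pc r d := by
  simp only [pc, Pi.add_apply, mul_add, Finset.sum_add_distrib]

theorem pc_zero (r : ℕ) : pc r 0 = 0 := by
  simp only [pc, Pi.zero_apply, mul_zero, Finset.sum_const_zero]

theorem pc_nsmul (r m : ℕ) (c : Fin 7 → ℤ) : pc r (m • c) = m * pc r c := by
  induction m with
  | zero => rw [zero_smul, pc_zero, Nat.cast_zero, zero_mul]
  | succ m ih => rw [succ_nsmul, pc_add, ih]; push_cast; ring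

/-- the bracket with a root vector -/
theorem br_er [Infinite K] (r : Fin chevE7.nroots) (y : chevE7.Idx → K) : br K (er K r) y = EM K r *ᵥ y := by
  classical
  have hN : del K (er K r) = NM K r := R2.PX.del_inr r
  have hNN : NM K r * NM K r = 0 := R2.PX.NM_mul_self r.2
  obtain ⟨A, hA⟩ : ∃ A, A = del K (EM K r *ᵥ y) := ⟨_, rfl⟩
  obtain ⟨d, hd⟩ : ∃ d, d = -(y (Sum.inr (ng r))) := ⟨_, rfl⟩
  have key : ∀ t : K, t • (NM K r * del K y - del K y * NM K r - A) = t ^ 2 • (d • NM K r + A * NM K r) := by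
    intro t
    have h := P2.eqv2 (xs K r t) y
    rw [rho_xs' r.2, adM_xs r.2, add_mulVec, add_mulVec, one_mulVec, smul_mulVec, smul_mulVec, QM_mulVec, map_add,
      map_add, map_smul, map_smul, map_smul, hN, ← hA, ← hd] at h
    simp only [add_mul, mul_add, one_mul, mul_one, smul_mul_assoc, mul_smul_comm, hNN, smul_zero, add_zero] at h
    linear_combination (norm := module) h
  obtain ⟨a, ha⟩ := Infinite.exists_notMem_finset ({0, 1} : Finset K)
  rw [Finset.mem_insert, Finset.mem_singleton, not_or] at ha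
  have h1 := key 1
  have h2 := key a
  rw [one_pow, one_smul, one_smul] at h1
  rw [← h1, ← sub_eq_zero, ← sub_smul, smul_eq_zero] at h2
  refine Mu.del_injective ?_
  rw [del_br, hN, ← hA, ← sub_eq_zero]
  refine h2.resolve_left fun e => ?_
  rw [show a - a ^ 2 = a * (1 - a) by ring, mul_eq_zero, sub_eq_zero] at e
  exact e.elim ha.1 fun e => ha.2 e.symm

theorem eq_inr {j : chevE7.Idx} {s : Fin chevE7.nroots} (h : cv (ac j) = rv s) : j = Sum.inr s := by
  rcases j with j | u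
  · rw [ac_inl, cv_zero] at h
    exact absurd h.symm (rv_ne s.2)
  · exact congrArg _ (Fin.ext (rv_inj u.2 s.2 h))

theorem xs_apply {r : ℕ} (hr : r < 126) (t : K) (y : chevE7.Idx → K) (i : chevE7.Idx) :
    (adM K (xs K r t) *ᵥ y) i = y i + t * (EM K r *ᵥ y) i + t ^ 2 * (QM K r *ᵥ y) i := by
  rw [adM_xs hr, add_mulVec, add_mulVec, one_mulVec, smul_mulVec, smul_mulVec]
  rfl

theorem mulVec_one {A : Matrix chevE7.Idx chevE7.Idx K} {i j : chevE7.Idx} (y : chevE7.Idx → K)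
    (h : ∀ j', A i j' ≠ 0 → j' = j) : (A *ᵥ y) i = A i j * y j :=
  Finset.sum_eq_single (f := fun j' => A i j' * y j') j (fun j' _ hj => by rw [of_not_not fun e => hj (h j' e), zero_mul])
    fun e => absurd (Finset.mem_univ _) e

theorem mulVec_none {A : Matrix chevE7.Idx chevE7.Idx K} {i : chevE7.Idx} (y : chevE7.Idx → K)
    (h : ∀ j', A i j' ≠ 0 → False) : (A *ᵥ y) i = 0 :=
  of_not_not fun e => by
    obtain ⟨j, h1, -⟩ := exists_col e
    exact h j h1

theorem cf_cast {r s u : ℕ} (hr : r < 126) (h : cf r s u ≠ 0) : ((cf r s u : ℤ) : K) ≠ 0 := by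
  rcases F7_cases hr s with h1 | ⟨u', c, h1, -, -, h2, -⟩
  · exact absurd (cf_nil h1 u) h
  · rw [cf_cons h1] at h ⊢
    rw [if_pos (of_not_not fun e => h (if_neg e))]
    exact cast_ne h2

/-- the frame as indices -/
def fI (k : ℕ) : Fin chevE7.nroots := ⟨fr k, fr_lt k⟩

/-- the level of a coordinate -/
def lev (k : ℕ) (i : chevE7.Idx) : ℤ := pc (fr k) (ac i)

variable {k : ℕ}

theorem lev_inl (k : ℕ) (i : Fin chevE7.rank) : lev k (Sum.inl i) = 0 := pc_zero _

theorem lev_inr (hk : k < 7) (r : Fin chevE7.nroots) : lev k (Sum.inr r) = lt k r := chk_lt k hk r r.2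

theorem lev_le (hk : k < 7) (i : chevE7.Idx) : lev k i ≤ 2 := by
  rcases i with i | r
  · rw [lev_inl]; norm_num
  · rw [lev_inr hk]; exact ((chk_lev k hk).2.2.2 r r.2).1

theorem lev_two (hk : k < 7) {i : chevE7.Idx} (h : lev k i = 2) : i = Sum.inr (fI k) := by
  rcases i with i | r
  · rw [lev_inl] at h; norm_num at h
  · rw [lev_inr hk] at h
    exact congrArg _ (Fin.ext (((chk_lev k hk).2.2.2 r r.2).2.1 h))

theorem lev_fI (hk : k < 7) : lev k (Sum.inr (fI k)) = 2 := (lev_inr hk _).trans (chk_lev k hk).2.1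

theorem lev_EM (hk : k < 7) {r : ℕ} (hr : r < 126) {i j : chevE7.Idx} (h : EM K r i j ≠ 0) :
    lev k i = lev k j + lt k r := by
  rw [lev, EM_wt hr h, pc_add, chk_lt k hk r hr]; rfl

theorem lev_QM (hk : k < 7) {r : ℕ} (hr : r < 126) {i j : chevE7.Idx} (h : QM K r i j ≠ 0) :
    lev k i = lev k j + 2 * lt k r := by
  rw [lev, QM_wt hr h, pc_add, pc_nsmul, chk_lt k hk r hr]; rfl

theorem bf_lev (k : ℕ) (i : chevE7.Idx) : bf (-rv (fr k)) (cv (ac i)) = -(lev k i : ℝ) := by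
  rw [map_neg, LinearMap.neg_apply, bf_symm, bf_cv_rv _ (fr_lt k)]; rfl

theorem psi_iff (hk : k ≤ 7) {r : ℕ} (hr : r < 126) : psi k r = true ↔ ∀ j < k, pc (fr j) (rc r) = 0 := by
  simp only [psi, List.all_eq_true, List.mem_range, beq_iff_eq]
  exact forall₂_congr fun j hj => by rw [chk_lt j (by omega) r hr]

/-- the support is orthogonal to the first `k` roots of the frame -/
def Sp (k : ℕ) (y : chevE7.Idx → K) : Prop := ∀ i, y i ≠ 0 → ∀ j < k, lev j i = 0

/-- the elements which fix the first `k` root vectors of the frame -/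
def Fx (k : ℕ) (g : Gh K) : Prop := ∀ j < k, adM K g *ᵥ er K (fI j) = er K (fI j)

/-- the elements which are allowed in step `k` -/
def Ok (k : ℕ) (g : Gh K) : Prop := Fx k g ∧ ∀ y, Sp k y → Sp k (adM K g *ᵥ y)

theorem Fx.mul {g h : Gh K} (hg : Fx k g) (hh : Fx k h) : Fx k (g * h) := fun j hj => by
  rw [mulVec_mul, hh j hj, hg j hj]

theorem Ok.mul {g h : Gh K} (hg : Ok k g) (hh : Ok k h) : Ok k (g * h) :=
  ⟨hg.1.mul hh.1, fun y hy => by rw [mulVec_mul]; exact hg.2 _ (hh.2 y hy)⟩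

theorem ok_one : Ok k (1 : Gh K) :=
  ⟨fun j _ => by rw [map_one, one_mulVec], fun y hy => by rwa [map_one, one_mulVec]⟩

theorem ok_xs (hk : k ≤ 7) {r : ℕ} (hr : r < 126) (h : psi k r = true) (t : K) : Ok k (xs K r t) := by
  rw [psi_iff hk hr] at h
  refine ⟨fun j hj => ?_, fun y hy i hi j hj => ?_⟩
  · have h1 := chk_orth j (by omega) r hr ((chk_lt j (by omega) r hr).symm.trans (h j hj))
    funext i
    have h2 : (EM K r *ᵥ er K (fI j)) i = 0 := by
      rw [er, mulVec_single_one, col_apply]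
      rcases i with i | u
      · exact (EM_lr r i _).trans (if_neg h1.2)
      · rw [EM_rr, show cf r (fI j) u = 0 from cf_nil h1.1 _, Int.cast_zero]
    have h3 : (QM K r *ᵥ er K (fI j)) i = 0 := by
      rw [er, mulVec_single_one, col_apply]
      rcases i with i | u
      · rfl
      · exact (QM_rr r u _).trans (if_neg h1.2)
    rw [xs_apply hr, h2, h3, mul_zero, mul_zero, add_zero, add_zero]
  · obtain ⟨i', h1, h2⟩ := exists_col hi
    obtain ⟨m, hm⟩ := wrep_L.root r hr t i i' h1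
    rw [lev, hm, pc_add, pc_nsmul, h j hj, mul_zero, add_zero]
    exact hy i' h2 j hj

/-- a root of the support is moved to the root of the frame -/
theorem move [Infinite K] (hk : k < 7) (n : ℕ) : ∀ (r : Fin chevE7.nroots) (y : chevE7.Idx → K), 126 ≤ r.val + n →
    comp k r = true → y (Sum.inr r) ≠ 0 → ∃ g, Ok k g ∧ (adM K g *ᵥ y) (Sum.inr (fI k)) ≠ 0 := by
  induction n with
  | zero => intro r _ h; exact absurd (show r.val < 126 from r.2) (by omega)
  | succ n ih =>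
    intro r y hn hc hy
    rcases chk_move hk r.2 hc with h | ⟨i, hi, h1, h2, h3, h4, h5⟩
    · exact ⟨1, ok_one, by rwa [map_one, one_mulVec, ← show r = fI k from Fin.ext h]⟩
    have hs := simple7_lt i hi
    have h6 : Ok k (ns K ⟨i, hi⟩) := by
      rw [ns_eq]
      exact ((ok_xs hk.le hs h1 _).mul (ok_xs hk.le (by omega) h2 _)).mul (ok_xs hk.le hs h1 _)
    have hm := (wrep_L (K := K)).mon_ns ⟨i, hi⟩
    have h7 : sr ⟨i, hi⟩ (rv r) = rv (chevE7.reflectRoot i r) := sr_rv ⟨i, hi⟩ r.2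
    obtain ⟨g, hg, h8⟩ := ih ⟨_, h4⟩ (adM K (ns K ⟨i, hi⟩) *ᵥ y) (by show 126 ≤ chevE7.reflectRoot i r + n; omega) h5 (by
      rw [mulVec_one y (j := Sum.inr r) fun j' hj => eq_inr (by
        rw [← sr_sr ⟨i, hi⟩ (cv (ac j')), ← hm _ _ hj, ← sr_sr ⟨i, hi⟩ (rv r), h7]; rfl)]
      obtain ⟨i', h9⟩ := exists_ne (adM K) (ns K ⟨i, hi⟩) (Sum.inr r)
      have h10 : i' = Sum.inr ⟨_, h4⟩ := eq_inr ((hm _ _ h9).trans h7)
      exact mul_ne_zero (h10 ▸ h9) hy)
    exact ⟨g * ns K ⟨i, hi⟩, hg.mul h6, by rwa [mulVec_mul]⟩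

theorem xs_low (hk : k < 7) {r : ℕ} (hr : r < 126) (t : K) (y : chevE7.Idx → K) {i : chevE7.Idx} (h : lt k r < 0)
    (h2 : 2 < lev k i - lt k r) : (adM K (xs K r t) *ᵥ y) i = y i := by
  rw [xs_apply hr, mulVec_none y fun j hj => ?_, mulVec_none y fun j hj => ?_, mul_zero, mul_zero, add_zero, add_zero]
  · have := lev_QM hk hr hj; have := lev_le hk j; omega
  · have := lev_EM hk hr hj; have := lev_le hk j; omega

theorem xs_one (hk : k < 7) {r : ℕ} (hr : r < 126) (t : K) (y : chevE7.Idx → K) {s : Fin chevE7.nroots}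
    (h : lt k r = -1) (h1 : lev k (Sum.inr s) = 1) :
    (adM K (xs K r t) *ᵥ y) (Sum.inr s) = y (Sum.inr s) + t * ((cf r (fr k) s : ℤ) * y (Sum.inr (fI k))) := by
  rw [xs_apply hr, mulVec_one y (j := Sum.inr (fI k)) fun j hj => lev_two hk ?_, mulVec_none y fun j hj => ?_,
    mul_zero, add_zero]
  · rfl
  · have := lev_QM hk hr hj; have := lev_le hk j; omega
  · have := lev_EM hk hr hj; omega

/-- level one is killed -/
theorem kill_one (hk : k < 7) {y : chevE7.Idx → K} (hy : Sp k y) (h0 : y (Sum.inr (fI k)) ≠ 0) (n : ℕ) :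
    ∃ g, Ok k g ∧ (adM K g *ᵥ y) (Sum.inr (fI k)) ≠ 0 ∧
      ∀ r : Fin chevE7.nroots, r.val < n → lev k (Sum.inr r) = 1 → (adM K g *ᵥ y) (Sum.inr r) = 0 := by
  induction n with
  | zero => exact ⟨1, ok_one, by rwa [map_one, one_mulVec], fun r hr => absurd hr (Nat.not_lt_zero _)⟩
  | succ n ih =>
    obtain ⟨g, hg, h1, h2⟩ := ih
    by_cases hc : ∃ r : Fin chevE7.nroots, r.val = n ∧ lev k (Sum.inr r) = 1 ∧ (adM K g *ᵥ y) (Sum.inr r) ≠ 0
    · obtain ⟨r, rfl, h3, h4⟩ := hc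
      obtain ⟨hd, h5, h6⟩ := chk_one k hk r r.2 ((psi_iff hk.le r.2).2 (hg.2 y hy _ h4)) ((lev_inr hk r).symm.trans h3)
      obtain ⟨d, hd'⟩ : ∃ d, d = sm (125 - fr k) r := ⟨_, rfl⟩
      rw [← hd'] at hd h5 h6
      have h7 : lt k d = -1 := by
        have e := congrArg (pc (fr k)) (cf_rc hd (fr_lt k) r.2 h6)
        rw [pc_add, chk_lt k hk d hd, chk_lt k hk _ (fr_lt k), (chk_lev k hk).2.1, show pc (fr k) (rc r) = 1 from h3] at e
        omega
      have h8 := mul_ne_zero (cf_cast (K := K) hd h6) h1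
      refine ⟨xs K d (-(adM K g *ᵥ y) (Sum.inr r) / ((cf d (fr k) r : ℤ) * (adM K g *ᵥ y) (Sum.inr (fI k)))) * g,
        (ok_xs hk.le hd h5 _).mul hg, ?_, fun s hs h9 => ?_⟩
      · rwa [mulVec_mul, xs_low hk hd _ _ (by omega) (by rw [lev_fI hk]; omega)]
      · rw [mulVec_mul, xs_one hk hd _ _ h7 h9]
        by_cases e : s = r
        · rw [e, div_mul_cancel₀ _ h8, add_neg_cancel]
        · have e' : r.val ≠ s.val := fun e' => e (Fin.ext e'.symm)
          rw [h2 s (by omega) h9, cf_cons (cf_ne hd h6) s, if_neg e', Int.cast_zero, zero_mul, mul_zero, add_zero]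
    · refine ⟨g, hg, h1, fun r hr h3 => ?_⟩
      by_cases e : r.val = n
      · exact of_not_not fun h4 => hc ⟨r, e, h3, h4⟩
      · exact h2 r (by omega) h3

/-- the opposite root is killed -/
theorem kill_two [IsAlgClosed K] (hk : k < 7) {y : chevE7.Idx → K} (h0 : y (Sum.inr (fI k)) ≠ 0) :
    ∃ g, Ok k g ∧ (∀ i, 0 < lev k i → (adM K g *ᵥ y) i = y i) ∧ (adM K g *ᵥ y) (Sum.inr (ng (fI k))) = 0 := by
  have hr : 125 - fr k < 126 := by omega
  obtain ⟨s, hs⟩ := IsAlgClosed.exists_root (Polynomial.C (-y (Sum.inr (fI k))) * Polynomial.X ^ 2 +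
    Polynomial.C ((EM K (125 - fr k) *ᵥ y) (Sum.inr (ng (fI k)))) * Polynomial.X + Polynomial.C (y (Sum.inr (ng (fI k)))))
    (by rw [Polynomial.degree_quadratic (neg_ne_zero.2 h0)]; norm_num)
  have h1 := (chk_lev k hk).2.2.1
  refine ⟨xs K (125 - fr k) s, ok_xs hk.le hr (chk_lev k hk).1 s, fun i hi => xs_low hk hr s y (by omega) (by omega), ?_⟩
  have h2 : ng (ng (fI k)) = fI k := Fin.ext (by have := fr_lt k; show 125 - (125 - fr k) = fr k; omega)
  have h3 : QM K (125 - fr k) *ᵥ y = _ := QM_mulVec (r := ng (fI k)) y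
  rw [xs_apply hr, h3, h2, Pi.smul_apply, er, Pi.single_eq_same, smul_eq_mul]
  simp only [Polynomial.IsRoot.def, Polynomial.eval_add, Polynomial.eval_mul, Polynomial.eval_C, Polynomial.eval_pow,
    Polynomial.eval_X] at hs
  linear_combination hs

theorem sq_er (h2 : (2 : K) = 0) (r : Fin chevE7.nroots) : P2.sq K (er K r) = 0 := by
  rw [P2.sq_eq_zero h2, show del K (er K r) = NM K r from R2.PX.del_inr r, R2.PX.NM_mul_self r.2]

/-- the root of the frame is peeled off -/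
theorem peel_off [Infinite K] (h2 : (2 : K) = 0) (hk : k < 7) {z : chevE7.Idx → K} (hz : Sp k z) (hs : P2.sq K z = 0)
    (h0 : z (Sum.inr (fI k)) ≠ 0) (h1 : ∀ r : Fin chevE7.nroots, lev k (Sum.inr r) = 1 → z (Sum.inr r) = 0)
    (hn : z (Sum.inr (ng (fI k))) = 0) :
    ∃ y, z = z (Sum.inr (fI k)) • er K (fI k) + y ∧ Sp (k + 1) y ∧ P2.sq K y = 0 := by
  obtain ⟨c, hc⟩ : ∃ c, c = z (Sum.inr (fI k)) := ⟨_, rfl⟩
  obtain ⟨y, hy⟩ : ∃ y, y = z - c • er K (fI k) := ⟨_, rfl⟩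
  have e1 : z = c • er K (fI k) + y := by rw [hy, add_sub_cancel]
  have e2 : ∀ i, y i ≠ 0 → i ≠ Sum.inr (fI k) ∧ z i ≠ 0 := fun i hi => by
    have h3 : i ≠ Sum.inr (fI k) := fun e => hi (by
      rw [hy, e, Pi.sub_apply, Pi.smul_apply, er, Pi.single_eq_same, smul_eq_mul, mul_one, hc, sub_self])
    rw [hy, Pi.sub_apply, Pi.smul_apply, er, Pi.single_eq_of_ne h3, smul_zero, sub_zero] at hi
    exact ⟨h3, hi⟩
  have e3 : ∀ i, y i ≠ 0 → lev k i ≤ 0 := fun i hi => by
    have h3 := lev_le hk i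
    have h4 : lev k i ≠ 2 := fun e => (e2 i hi).1 (lev_two hk e)
    rcases i with i | r
    · exact (lev_inl k i).le
    · have h5 : lev k (Sum.inr r) ≠ 1 := fun e => (e2 _ hi).2 (h1 r e)
      omega
  have e4 : P2.sq K y ∈ Ge K ac (-rv (fr k)) (0 + 0) := P2.sq_Ge h2 fun i hi => by
    rw [bf_lev, neg_nonneg]; exact_mod_cast e3 i hi
  have e5 : P2.sq K y = -(c • EM K (fr k) *ᵥ y) := by
    rw [e1, P2.sq_add h2, P2.sq_smul h2, sq_er h2, smul_zero, zero_add, map_smul, LinearMap.smul_apply, br_er] at hs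
    exact eq_neg_of_add_eq_zero_left hs
  have e6 : ∀ i, 0 < lev k i → (EM K (fr k) *ᵥ y) i = 0 := fun i hi => of_not_not fun e => by
    have h3 := e4 i (by
      rw [e5, Pi.neg_apply, Pi.smul_apply, smul_eq_mul]
      exact neg_ne_zero.2 (mul_ne_zero (hc ▸ h0) e))
    rw [bf_lev, add_zero, neg_nonneg] at h3
    exact absurd (show lev k i ≤ 0 by exact_mod_cast h3) (not_le.2 hi)
  have e7 : ∀ i, y i ≠ 0 → lev k i = 0 := fun i hi => by
    rcases i with i | r
    · exact lev_inl k i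
    have h3 := e3 _ hi
    have h4 : ¬ lt k r ≤ -2 := fun e => (e2 _ hi).2 (by
      rw [show r = ng (fI k) from Fin.ext (((chk_lev k hk).2.2.2 r r.2).2.2.1 e), hn])
    have h5 : lt k r ≠ -1 := fun e => by
      obtain ⟨h6, h7⟩ := chk_mone k hk r r.2 e
      have h8 := cf_rc (fr_lt k) r.2 h6 h7
      have h9 := e6 (Sum.inr ⟨_, h6⟩) (by
        show 0 < pc (fr k) (rc (sm (fr k) r))
        rw [h8, pc_add, chk_lt k hk r r.2, chk_lt k hk _ (fr_lt k), (chk_lev k hk).2.1, e]; norm_num)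
      rw [mulVec_one y (j := Sum.inr r) fun j hj => eq_inr (congrArg cv (by
        have h10 : rc (sm (fr k) r) = _ := EM_wt (fr_lt k) hj
        rw [h8] at h10
        exact (add_right_cancel h10).symm))] at h9
      exact mul_ne_zero (cf_cast (fr_lt k) h7) hi h9
    rw [lev_inr hk] at h3 ⊢
    omega
  refine ⟨y, hc ▸ e1, fun i hi j hj => ?_, ?_⟩
  · by_cases e : j = k
    · exact e ▸ e7 i hi
    · exact hz i (e2 i hi).2 j (by omega)
  · have h3 : EM K (fr k) *ᵥ y = 0 := funext fun i => of_not_not fun e => by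
      obtain ⟨j, h4, h5⟩ := exists_col e
      refine e (e6 i ?_)
      rw [lev_EM hk (fr_lt k) h4, e7 j h5, (chk_lev k hk).2.1]; norm_num
    rw [e5, h3, smul_zero, neg_zero]

theorem eq_zero_of_top (h2 : (2 : K) = 0) {y : chevE7.Idx → K} (hy : Sp 7 y) (hs : P2.sq K y = 0) : y = 0 := by
  have h1 : y = tv fun i => y (Sum.inl i) := by
    funext i
    rcases i with i | r
    · rfl
    · exact of_not_not fun e => Bool.false_ne_true ((chk_top r r.2).symm.trans ((psi_iff le_rfl r.2).2 (hy _ e)))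
  rw [P2.sq_eq_zero h2, h1, La.del_tv, diagonal_mul_diagonal, ← diagonal_zero, diagonal_eq_diagonal_iff] at hs
  refine Mu.del_inj ?_
  rw [h1, La.del_tv, ← diagonal_zero, diagonal_eq_diagonal_iff]
  exact fun a => mul_self_eq_zero.1 (hs a)

/-- the support lies in the frame -/
def OnF (z : chevE7.Idx → K) : Prop := ∀ i, z i ≠ 0 → ∃ j < 7, i = Sum.inr (fI j)

theorem peel_aux [IsAlgClosed K] (h2 : (2 : K) = 0) (m : ℕ) : ∀ k, k + m = 7 → ∀ y : chevE7.Idx → K, Sp k y →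
    P2.sq K y = 0 → ∃ g, Fx k g ∧ OnF (adM K g *ᵥ y) := by
  induction m with
  | zero =>
    rintro k rfl y hy hs
    exact ⟨1, ok_one.1, fun i hi => absurd (by rw [eq_zero_of_top h2 hy hs, mulVec_zero, Pi.zero_apply]) hi⟩
  | succ m ih =>
    intro k hm y hy hs
    have hk : k < 7 := by omega
    by_cases h : ∀ i, y i ≠ 0 → lev k i = 0
    · obtain ⟨g, hg, h1⟩ := ih (k + 1) (by omega) y (fun i hi j hj => by
        by_cases e : j = k
        · exact e ▸ h i hi
        · exact hy i hi j (by omega)) hs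
      exact ⟨g, fun j hj => hg j (by omega), h1⟩
    obtain ⟨i, hi⟩ := not_forall.1 h
    obtain ⟨h0, h1⟩ := Classical.not_imp.1 hi
    rcases i with i | r
    · exact absurd (lev_inl k i) h1
    obtain ⟨g1, o1, a1⟩ := move hk 126 r y (by omega) (((chk_lev k hk).2.2.2 r r.2).2.2.2
      ((psi_iff hk.le r.2).2 (hy _ h0)) (lev_inr hk r ▸ h1)) h0
    obtain ⟨g2, o2, a2, b2⟩ := kill_one hk (o1.2 y hy) a1 126
    obtain ⟨g3, o3, a3, b3⟩ := kill_two hk a2
    obtain ⟨y1, e1, s1, q1⟩ := peel_off h2 hk (o3.2 _ (o2.2 _ (o1.2 y hy)))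
      (by rw [← P2.adM_sq h2, ← P2.adM_sq h2, ← P2.adM_sq h2, hs, mulVec_zero, mulVec_zero, mulVec_zero])
      (by rwa [a3 _ (by rw [lev_fI hk]; norm_num)]) (fun s hs => by rw [a3 _ (by omega), b2 s s.2 hs]) b3
    obtain ⟨g4, o4, a4⟩ := ih (k + 1) (by omega) y1 s1 q1
    refine ⟨g4 * (g3 * (g2 * g1)), Fx.mul (fun j hj => o4 j (by omega)) (o3.mul (o2.mul o1)).1, fun i hi => ?_⟩
    rw [mulVec_mul, mulVec_mul, mulVec_mul, e1, mulVec_add, mulVec_smul, o4 k (by omega), Pi.add_apply] at hi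
    by_cases e : i = Sum.inr (fI k)
    · exact ⟨k, hk, e⟩
    · rw [Pi.smul_apply, er, Pi.single_eq_of_ne e, smul_zero, zero_add] at hi
      exact a4 i hi

/-- **elements of square zero are conjugate into the span of the frame** -/
theorem peel0 [IsAlgClosed K] (h2 : (2 : K) = 0) {x : chevE7.Idx → K} (hx : del K x * del K x = 0) :
    ∃ g, OnF (adM K g *ᵥ x) := by
  obtain ⟨g, -, h⟩ := peel_aux h2 7 0 rfl x (fun _ _ j hj => absurd hj (Nat.not_lt_zero j)) ((P2.sq_eq_zero h2).2 hx)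
  exact ⟨g, h⟩

end Cfsg.Agent.E7P.Pe
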